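import Mathlib
import Cfsg.Prelude.Def_TwoFusion
import Cfsg.Agent.Lib.Invol.Basic

/-!
Groups in which every nontrivial subgroup of a cyclic subgroup of even order has the same normalizer:
basic facts about centralizers of involutions.
-/

set_option autoImplicit false
set_option linter.unusedSectionVars false

namespace CfsgLib.Recog.NormCyclic

open Subgroup

variable {G : Type*} [Group G]

/-- Nontrivial subgroups of a cyclic subgroup of even order have the same normalizer. -/
def Hyp (G : Type*) [Group G] : Prop :=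
  ∀ X : Subgroup G, IsCyclic ↥X → Even (Nat.card ↥X) → ∀ Y : Subgroup G, Y ≤ X → Y ≠ ⊥ →
    Subgroup.normalizer (X : Set G) = Subgroup.normalizer (Y : Set G)

/-- The standing assumptions. -/
structure Std (G : Type*) [Group G] : Prop where
  hyp : Hyp G
  notSolvable : ¬ Group.IsSolvable G
  center : Subgroup.center G = ⊥
  odd_normal : ∀ N : Subgroup G, N.Normal → Odd (Nat.card N) → N = ⊥

theorem pow_mul_class_two {x y c : G} (h : y * x = c * (x * y)) (hcy : Commute c y) :
    ∀ n : ℕ, y ^ n * x = c ^ n * (x * y ^ n) := by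
  intro n
  induction n with
  | zero => simp
  | succ n ih =>
    calc y ^ (n + 1) * x = y * (y ^ n * x) := by rw [pow_succ', mul_assoc]
      _ = y * c ^ n * (x * y ^ n) := by rw [ih, mul_assoc]
      _ = c ^ n * (y * x) * y ^ n := by rw [← (hcy.pow_left n).eq]; group
      _ = c ^ n * (c * (x * y)) * y ^ n := by rw [h]
      _ = c ^ (n + 1) * (x * y ^ (n + 1)) := by rw [pow_succ c, pow_succ' y]; group

/-- Powers of a product in class two. -/
theorem mul_pow_class_two {x y c : G} (h : y * x = c * (x * y)) (hcx : Commute c x) (hcy : Commute c y)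
    (n : ℕ) : (x * y) ^ n = c ^ n.choose 2 * (x ^ n * y ^ n) := by
  induction n with
  | zero => simp
  | succ n ih =>
    have e1 : x ^ n * c ^ n = c ^ n * x ^ n := ((hcx.pow_pow n n)).symm.eq
    have hch : (n + 1).choose 2 = n.choose 2 + n := by
      rw [Nat.choose_succ_succ', Nat.choose_one_right, add_comm]
    calc (x * y) ^ (n + 1) = c ^ n.choose 2 * (x ^ n * (y ^ n * x) * y) := by
          rw [pow_succ, ih]; group
      _ = c ^ n.choose 2 * ((x ^ n * c ^ n) * (x * y ^ n) * y) := by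
          rw [pow_mul_class_two h hcy]; group
      _ = c ^ n.choose 2 * ((c ^ n * x ^ n) * (x * y ^ n) * y) := by rw [e1]
      _ = c ^ (n + 1).choose 2 * (x ^ (n + 1) * y ^ (n + 1)) := by
          rw [hch, pow_add c, pow_succ x, pow_succ y]; group

/-- A subgroup of prime order of a cyclic `p`-group contains the last nontrivial power. -/
theorem pow_mem_of_prime_order [Finite G] {p a : ℕ} (hp : p.Prime) {x c : G} (ha : orderOf x = p ^ (a + 1))
    (hc : c ∈ zpowers x) (hord : orderOf c = p) : x ^ p ^ a ∈ zpowers c := by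
  obtain ⟨k, hk⟩ := (mem_powers_iff_mem_zpowers.2 hc : c ∈ Submonoid.powers x)
  have hk' : x ^ k = c := hk
  subst hk'
  have h1 : p ^ (a + 1) ∣ k * p := by
    rw [← ha]; apply orderOf_dvd_of_pow_eq_one
    rw [pow_mul]
    exact orderOf_dvd_iff_pow_eq_one.1 hord.dvd
  obtain ⟨l, rfl⟩ : p ^ a ∣ k := Nat.dvd_of_mul_dvd_mul_right hp.pos (by rwa [pow_succ] at h1)
  have hz : orderOf (x ^ p ^ a) = p := by
    rw [orderOf_pow_of_dvd (pow_pos hp.pos a).ne' (ha ▸ pow_dvd_pow p (by omega)), ha, pow_succ,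
      Nat.mul_div_cancel_left _ (pow_pos hp.pos a)]
  have hle : zpowers (x ^ (p ^ a * l)) ≤ zpowers (x ^ p ^ a) := by
    rw [zpowers_le, pow_mul]; exact pow_mem (mem_zpowers _) _
  rw [eq_of_le_of_card_ge hle (by rw [Nat.card_zpowers, Nat.card_zpowers, hz]; exact hord.ge)]
  exact mem_zpowers _

/-- The commutator of two elements normalizing each other's cyclic subgroups. -/
theorem commutator_mem_zpowers {x y : G} (hy : y * x * y⁻¹ ∈ zpowers x) (hx : x * y * x⁻¹ ∈ zpowers y) :
    y * x * y⁻¹ * x⁻¹ ∈ zpowers x ∧ y * x * y⁻¹ * x⁻¹ ∈ zpowers y := by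
  refine ⟨mul_mem hy (inv_mem (mem_zpowers x)), ?_⟩
  rw [show y * x * y⁻¹ * x⁻¹ = y * (x * y * x⁻¹)⁻¹ by group]
  exact mul_mem (mem_zpowers y) (inv_mem hx)

theorem commute_of_mem_zpowers {x c : G} (h : c ∈ zpowers x) : Commute c x := by
  obtain ⟨k, rfl⟩ := h
  exact (Commute.refl x).zpow_left k

/-- Odd elements normalizing each other's cyclic subgroups commute, given that all their powers do so too. -/
theorem commute_of_dedekind_odd [Finite G] (P : G → Prop) (hpow : ∀ x, P x → ∀ n : ℕ, P (x ^ n))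
    (hmul : ∀ x y, P x → P y → P (x * y)) (hodd : ∀ x, P x → Odd (orderOf x))
    (hnorm : ∀ x y, P x → P y → x * y * x⁻¹ ∈ zpowers y) :
    ∀ x y, P x → P y → Commute x y := by
  suffices H : ∀ N : ℕ, ∀ x y, P x → P y → orderOf x + orderOf y ≤ N → Commute x y from
    fun x y hx hy => H _ x y hx hy le_rfl
  intro N
  induction N with
  | zero => intro x y _ _ hN; have := orderOf_pos x; omega
  | succ N ih =>
    intro x y hx hy hN
    wlog hle : orderOf x ≤ orderOf y generalizing x y
    · exact (this y x hy hx (by omega) (le_of_not_ge hle)).symm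
    by_contra hne
    set c := y * x * y⁻¹ * x⁻¹ with hc
    obtain ⟨hcx', hcy'⟩ := commutator_mem_zpowers (hnorm y x hy hx) (hnorm x y hx hy)
    have hcx : Commute c x := commute_of_mem_zpowers hcx'
    have hcy : Commute c y := commute_of_mem_zpowers hcy'
    have hyx : y * x = c * (x * y) := by rw [hc]; group
    have hc1 : c ≠ 1 := fun e => hne (by rw [e, one_mul] at hyx; exact hyx.symm)
    have hkx : ∀ q : ℕ, q.Prime → q ∣ orderOf x → c ^ q = 1 := by
      intro q hq hqd
      have hlt : orderOf (x ^ q) < orderOf x := by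
        rw [orderOf_pow_of_dvd hq.ne_zero hqd]
        exact Nat.div_lt_self (orderOf_pos x) hq.one_lt
      have hcomm : Commute (x ^ q) y := ih (x ^ q) y (hpow x hx q) hy (by omega)
      have e : (y * x * y⁻¹) ^ q = c ^ q * x ^ q := by
        rw [show y * x * y⁻¹ = c * x by rw [hc]; group, hcx.mul_pow]
      rw [conj_pow, ← hcomm.eq, mul_inv_cancel_right] at e
      exact mul_eq_right.1 e.symm
    have hky : ∀ q : ℕ, q.Prime → q ∣ orderOf y → c ^ q = 1 := by
      intro q hq hqd
      have hlt : orderOf (y ^ q) < orderOf y := by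
        rw [orderOf_pow_of_dvd hq.ne_zero hqd]
        exact Nat.div_lt_self (orderOf_pos y) hq.one_lt
      have hcomm : Commute x (y ^ q) := ih x (y ^ q) hx (hpow y hy q) (by omega)
      have e := pow_mul_class_two hyx hcy q
      rw [← hcomm.eq] at e
      exact mul_eq_right.1 e.symm
    have hx1 : orderOf x ≠ 1 := fun e => hne (by rw [orderOf_eq_one_iff.1 e]; exact Commute.one_left y)
    obtain ⟨p, hp, hpd⟩ := Nat.exists_prime_and_dvd hx1
    haveI := Fact.mk hp
    have hcp : orderOf c = p := orderOf_eq_prime (hkx p hp hpd) hc1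
    have huniq : ∀ n : ℕ, n ≠ 0 → (∀ q : ℕ, q.Prime → q ∣ n → c ^ q = 1) → ∃ a, n = p ^ a := fun n hn h =>
      ⟨_, Nat.eq_prime_pow_of_unique_prime_dvd hn fun {q} hq hqd => by
        have h1 := orderOf_dvd_of_pow_eq_one (h q hq hqd)
        rw [hcp, Nat.prime_dvd_prime_iff_eq hp hq] at h1
        exact h1.symm⟩
    obtain ⟨a, ha⟩ := huniq _ (orderOf_pos x).ne' hkx
    obtain ⟨b, hb⟩ := huniq _ (orderOf_pos y).ne' hky
    obtain ⟨a, rfl⟩ : ∃ a', a = a' + 1 := ⟨a - 1, by
      rcases a with _ | a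
      · rw [pow_zero] at ha; exact absurd ha hx1
      · omega⟩
    have hp2 : p ≠ 2 := fun e => Nat.not_even_iff_odd.2 (hodd x hx) (even_iff_two_dvd.2 (e ▸ hpd))
    have hab : a + 1 ≤ b := (Nat.pow_le_pow_iff_right hp.one_lt).1 (ha ▸ hb ▸ hle)
    -- some power of `x` of positive order lies in `<y>`
    have hxa : x ^ p ^ a ∈ zpowers y :=
      (zpowers_le.2 hcy') (pow_mem_of_prime_order hp ha hcx' hcp)
    obtain ⟨m, hm, hmin⟩ : ∃ m, x ^ p ^ m ∈ zpowers y ∧ m ≤ a := ⟨a, hxa, le_rfl⟩
    obtain ⟨k, hk⟩ := (mem_powers_iff_mem_zpowers.2 (inv_mem hm) : (x ^ p ^ m)⁻¹ ∈ Submonoid.powers y)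
    have hkd : p ^ b ∣ k * p ^ (a + 1 - m) := by
      rw [← hb]; apply orderOf_dvd_of_pow_eq_one
      rw [pow_mul, show y ^ k = (x ^ p ^ m)⁻¹ from hk, inv_pow, ← pow_mul, ← pow_add,
        show m + (a + 1 - m) = a + 1 by omega, ← ha, pow_orderOf_eq_one, inv_one]
    obtain ⟨l, rfl⟩ : p ^ m ∣ k := by
      refine Nat.dvd_of_mul_dvd_mul_right (pow_pos hp.pos (a + 1 - m)) ?_
      rw [← pow_add, show m + (a + 1 - m) = a + 1 by omega]
      exact (pow_dvd_pow p hab).trans hkd
    rcases Nat.eq_zero_or_pos m with rfl | hm0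
    · rw [pow_zero, pow_one] at hm
      exact hne (commute_of_mem_zpowers hm)
    -- the smaller element
    have hrel : y ^ l * x = c ^ l * (x * y ^ l) := pow_mul_class_two hyx hcy l
    have hchoose : p ∣ (p ^ m).choose 2 := by
      refine hp.dvd_choose_pow (by norm_num) ?_
      intro e
      exact hp2 (((Nat.prime_dvd_prime_iff_eq hp Nat.prime_two).1 (e ▸ dvd_pow_self p hm0.ne')))
    have hpow1 : (x * y ^ l) ^ p ^ m = 1 := by
      obtain ⟨r, hr⟩ := hchoose
      have hcpp : c ^ p = 1 := hkx p hp hpd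
      have hk' : y ^ (p ^ m * l) = (x ^ p ^ m)⁻¹ := hk
      rw [mul_pow_class_two hrel (hcx.pow_left l) ((hcy.pow_pow l l)), hr, ← pow_mul c,
        show l * (p * r) = p * (l * r) by ring, pow_mul c, hcpp, one_pow, one_mul,
        ← pow_mul y, mul_comm l, hk', mul_inv_cancel]
    have hlt : orderOf (x * y ^ l) < orderOf x :=
      lt_of_le_of_lt (Nat.le_of_dvd (pow_pos hp.pos m) (orderOf_dvd_of_pow_eq_one hpow1))
        (ha ▸ Nat.pow_lt_pow_right hp.one_lt (by omega))
    have hc' : Commute (x * y ^ l) y := ih _ y (hmul _ _ hx (hpow y hy l)) hy (by omega)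
    refine hne ?_
    have := hc'.mul_left ((Commute.refl y).pow_left l).inv_left
    rwa [mul_inv_cancel_right] at this

namespace Hyp

variable (h : Hyp G) [Finite G]
include h

omit h in
theorem norm_zpowers_invol {t : G} (ht : orderOf t = 2) :
    Subgroup.normalizer (zpowers t : Set G) = centralizer ({t} : Set G) := by
  ext g
  rw [mem_normalizer_iff, mem_centralizer_singleton_iff]
  constructor
  · intro hg
    obtain ⟨n, hn⟩ := (mem_powers_iff_mem_zpowers.2 ((hg t).1 (mem_zpowers t)) :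
      g * t * g⁻¹ ∈ Submonoid.powers t)
    have hn' : t ^ (n % 2) = g * t * g⁻¹ := by rw [← ht, pow_mod_orderOf]; exact hn
    have hmod : n % 2 = 0 ∨ n % 2 = 1 := by omega
    rcases hmod with e | e
    · rw [e, pow_zero] at hn'
      exact absurd (conj_eq_one_iff.1 hn'.symm) (fun h1 => by rw [h1, orderOf_one] at ht; omega)
    · rw [e, pow_one] at hn'
      exact mul_inv_eq_iff_eq_mul.1 hn'.symm
  · intro hg n
    have e : g * t * g⁻¹ = t := by rw [hg, mul_inv_cancel_right]
    constructor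
    · rintro ⟨k, rfl⟩; exact ⟨k, by rw [← conj_zpow, e]⟩
    · rintro ⟨k, hk⟩
      refine ⟨k, ?_⟩
      have e' : t = g⁻¹ * t * g := by rw [mul_assoc, ← hg]; group
      calc t ^ k = g⁻¹ * (t ^ k) * g := by
            conv_lhs => rw [e']
            rw [show g⁻¹ * t * g = g⁻¹ * t * (g⁻¹)⁻¹ by group, conj_zpow, inv_inv]
        _ = n := by rw [show t ^ k = g * n * g⁻¹ from hk]; group

/-- The normalizer of a nontrivial subgroup of a cyclic subgroup of even order. -/
theorem norm_eq {y t : G} (ht : orderOf t = 2) (hty : t ∈ zpowers y) {Y : Subgroup G} (hY : Y ≤ zpowers y)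
    (hY1 : Y ≠ ⊥) : Subgroup.normalizer (Y : Set G) = centralizer ({t} : Set G) := by
  have hev : Even (Nat.card ↥(zpowers y)) := even_iff_two_dvd.2
    (ht ▸ (Nat.card_zpowers t).symm ▸ card_dvd_of_le (zpowers_le.2 hty))
  rw [← h (zpowers y) inferInstance hev Y hY hY1,
    h (zpowers y) inferInstance hev (zpowers t) (zpowers_le.2 hty)
      (fun e => by rw [zpowers_eq_bot] at e; rw [e, orderOf_one] at ht; omega),
    norm_zpowers_invol ht]

theorem conj_mem_zpowers {y t c : G} (ht : orderOf t = 2) (hty : t ∈ zpowers y) (hc : Commute c t)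
    {z : G} (hz : z ∈ zpowers y) : c * z * c⁻¹ ∈ zpowers z := by
  by_cases hz1 : z = 1
  · rw [hz1, mul_one, mul_inv_cancel]; exact one_mem _
  have hN := h.norm_eq ht hty (zpowers_le.2 hz) (fun e => hz1 (zpowers_eq_bot.1 e))
  have hmem : c ∈ Subgroup.normalizer (zpowers z : Set G) := hN ▸ mem_centralizer_singleton_iff.2 hc.eq
  exact (mem_normalizer_iff.1 hmem z).1 (mem_zpowers z)

omit h in
theorem odd_pair_mem {x t : G} (ht : orderOf t = 2) (hx : Odd (orderOf x)) (hxt : Commute x t) :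
    t ∈ zpowers (x * t) ∧ x ∈ zpowers (x * t) := by
  obtain ⟨k, hk⟩ := hx
  have h2 : t ^ 2 = 1 := ht ▸ pow_orderOf_eq_one t
  have e : (x * t) ^ orderOf x = t := by
    rw [hxt.mul_pow, pow_orderOf_eq_one, one_mul, hk, pow_succ, pow_mul, h2, one_pow, one_mul]
  have h1 : t ∈ zpowers (x * t) := by
    have h0 := pow_mem (mem_zpowers (x * t)) (orderOf x)
    rwa [e] at h0
  exact ⟨h1, by simpa using mul_mem (mem_zpowers (x * t)) (inv_mem h1)⟩

/-- An odd element centralizing an involution `t` has normalizer `C(t)`. -/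
theorem norm_odd {x t : G} (ht : orderOf t = 2) (hx : Odd (orderOf x)) (hx1 : x ≠ 1) (hxt : Commute x t) :
    Subgroup.normalizer (zpowers x : Set G) = centralizer ({t} : Set G) :=
  h.norm_eq ht (odd_pair_mem ht hx hxt).1 (zpowers_le.2 (odd_pair_mem ht hx hxt).2)
    (fun e => hx1 (zpowers_eq_bot.1 e))

theorem odd_conj_mem {x t c : G} (ht : orderOf t = 2) (hx : Odd (orderOf x)) (hxt : Commute x t)
    (hct : Commute c t) : c * x * c⁻¹ ∈ zpowers x :=
  h.conj_mem_zpowers ht (odd_pair_mem ht hx hxt).1 hct (odd_pair_mem ht hx hxt).2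

/-- The centralizer of a nontrivial odd element centralizing `t` lies in `C(t)`. -/
theorem commute_invol {x t c : G} (ht : orderOf t = 2) (hx : Odd (orderOf x)) (hx1 : x ≠ 1)
    (hxt : Commute x t) (hc : Commute c x) : Commute c t := by
  have hmem : c ∈ Subgroup.normalizer (zpowers x : Set G) := by
    rw [mem_normalizer_iff]
    intro z
    constructor
    · rintro ⟨k, rfl⟩; exact ⟨k, by rw [(hc.zpow_right k).eq, mul_inv_cancel_right]⟩
    · rintro ⟨k, hk⟩
      refine ⟨k, ?_⟩
      calc x ^ k = c⁻¹ * (x ^ k) * c := by rw [mul_assoc, ← (hc.zpow_right k).eq, inv_mul_cancel_left]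
        _ = z := by rw [show x ^ k = c * z * c⁻¹ from hk]; group
  rw [h.norm_odd ht hx hx1 hxt] at hmem
  exact mem_centralizer_singleton_iff.1 hmem

/-- Two involutions centralizing the same nontrivial odd element have the same centralizer. -/
theorem cent_eq {x s t : G} (hs : orderOf s = 2) (ht : orderOf t = 2) (hx : Odd (orderOf x)) (hx1 : x ≠ 1)
    (hxs : Commute x s) (hxt : Commute x t) :
    centralizer ({s} : Set G) = centralizer ({t} : Set G) := by
  rw [← h.norm_odd hs hx hx1 hxs, ← h.norm_odd ht hx hx1 hxt]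

theorem odd_mul {x y t : G} (ht : orderOf t = 2) (hx : Odd (orderOf x)) (hy : Odd (orderOf y))
    (hxt : Commute x t) (hyt : Commute y t) : Odd (orderOf (x * y)) := by
  set c := y * x * y⁻¹ * x⁻¹ with hc
  obtain ⟨hcx', hcy'⟩ := commutator_mem_zpowers (h.odd_conj_mem ht hx hxt hyt)
    (h.odd_conj_mem ht hy hyt hxt)
  have hyx : y * x = c * (x * y) := by rw [hc]; group
  set n := orderOf x * orderOf y with hn
  have hnodd : Odd n := hx.mul hy
  have hcn : c ^ n = 1 := by
    obtain ⟨k, hk⟩ := (mem_powers_iff_mem_zpowers.2 hcx' : c ∈ Submonoid.powers x)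
    rw [← show x ^ k = c from hk, ← pow_mul, mul_comm, mul_assoc, pow_mul, pow_orderOf_eq_one, one_pow]
  have e : (x * y) ^ n = 1 := by
    rw [mul_pow_class_two hyx (commute_of_mem_zpowers hcx') (commute_of_mem_zpowers hcy')]
    obtain ⟨j, hj⟩ := hnodd
    have hch : n.choose 2 = n * j := by
      rw [hj, Nat.choose_two_right, show 2 * j + 1 - 1 = 2 * j by omega,
        show (2 * j + 1) * (2 * j) = 2 * ((2 * j + 1) * j) by ring, Nat.mul_div_cancel_left _ two_pos]
    rw [hch, pow_mul, hcn, one_pow, one_mul, hn, pow_mul, pow_orderOf_eq_one, one_pow, one_mul,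
      mul_comm (orderOf x), pow_mul, pow_orderOf_eq_one, one_pow]
  exact hnodd.of_dvd_nat (orderOf_dvd_of_pow_eq_one e)

/-- The odd part of the centralizer of an involution. -/
def oddPart {t : G} (ht : orderOf t = 2) : Subgroup G where
  carrier := {x | Commute x t ∧ Odd (orderOf x)}
  one_mem' := ⟨Commute.one_left t, by rw [orderOf_one]; exact odd_one⟩
  mul_mem' := fun {x y} hx hy => ⟨hx.1.mul_left hy.1, h.odd_mul ht hx.2 hy.2 hx.1 hy.1⟩
  inv_mem' := fun {x} hx => ⟨hx.1.inv_left, by rw [orderOf_inv]; exact hx.2⟩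

theorem odd_commute {x y t : G} (ht : orderOf t = 2) (hx : Odd (orderOf x)) (hy : Odd (orderOf y))
    (hxt : Commute x t) (hyt : Commute y t) : Commute x y :=
  commute_of_dedekind_odd (fun z => Commute z t ∧ Odd (orderOf z))
    (fun z hz n => ⟨hz.1.pow_left n, hz.2.of_dvd_nat (orderOf_pow_dvd n)⟩)
    (fun z w hz hw => ⟨hz.1.mul_left hw.1, h.odd_mul ht hz.2 hw.2 hz.1 hw.1⟩)
    (fun z hz => hz.2) (fun z w hz hw => h.odd_conj_mem ht hw.2 hw.1 hz.1) x y ⟨hxt, hx⟩ ⟨hyt, hy⟩

/-- A cyclic subgroup containing the involution `t` centralizes the odd part of `C(t)`. -/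
theorem commute_odd {x y t : G} (ht : orderOf t = 2) (hty : t ∈ zpowers y) (hy : ∃ n, orderOf y = 2 ^ n)
    (hx : Odd (orderOf x)) (hxt : Commute x t) : Commute x y := by
  have hyt : Commute y t := (commute_of_mem_zpowers hty).symm
  set c := y * x * y⁻¹ * x⁻¹ with hc
  obtain ⟨hcx', hcy'⟩ := commutator_mem_zpowers (h.odd_conj_mem ht hx hxt hyt)
    (h.conj_mem_zpowers ht hty hxt (mem_zpowers y))
  obtain ⟨n, hn⟩ := hy
  have h1 : orderOf c ∣ orderOf x := orderOf_dvd_of_mem_zpowers hcx'
  have h2 : orderOf c ∣ 2 ^ n := hn ▸ orderOf_dvd_of_mem_zpowers hcy'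
  have hc1 : c = 1 := orderOf_eq_one_iff.1 (Nat.dvd_one.1
    ((Nat.Coprime.pow_right n hx.coprime_two_right).symm ▸ Nat.dvd_gcd h2 h1 :))
  rw [hc, mul_inv_eq_one, mul_inv_eq_iff_eq_mul] at hc1
  exact hc1.symm

end Hyp

end CfsgLib.Recog.NormCyclic
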