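import Cfsg.Agent.Lib.InvChar.BSWSmall
import Cfsg.Agent.Lib.Invol.Basic
import Cfsg.Agent.Lib.Perm.ZassenhausClassify
import Cfsg.Agent.Lib.Char.Burnside

/-!
The conclusion of the Brauer-Suzuki-Wall theorem in a nonsolvable group with one class of involutions
and no normal subgroup of odd order gives `PSL₂(q)`: the action on
the cosets of the normalizer of the TI Sylow subgroup is a Zassenhaus group.
-/

set_option autoImplicit false
set_option linter.unusedSectionVars false

namespace CfsgLib.InvChar.BSW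

open Subgroup

universe u

variable {G : Type u} [Group G] [Finite G]

theorem Conclusion.exists_psl_of_class (hns : ¬ Group.IsSolvable G)
    (hodd : ∀ N : Subgroup G, N.Normal → Odd (Nat.card N) → N = ⊥)
    (hconj : ∀ x y : G, orderOf x = 2 → orderOf y = 2 → IsConj x y) (h : Conclusion G) :
    ∃ (F : Type) (_ : Field F) (_ : Fintype F), Odd (Fintype.card F) ∧ 5 ≤ Fintype.card F ∧
      Nonempty (G ≃* Matrix.ProjectiveSpecialLinearGroup (Fin 2) F) := by
  classical
  obtain ⟨Q, D, hG, hC, -, hD, hQD, hNQ, hX⟩ := h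
  obtain ⟨q, hq⟩ : ∃ q, q = Nat.card Q := ⟨_, rfl⟩
  obtain ⟨d, hd⟩ : ∃ d, d = Nat.card D := ⟨_, rfl⟩
  rw [← hq] at hG hD
  rw [← hd] at hD
  have hdpos : 0 < d := hd ▸ Nat.card_pos
  have hq5 : 5 ≤ q := by
    by_contra hlt
    have hq3 : q = 3 := by omega
    rw [hq3] at hG
    have h12 : Nat.card G = 2 ^ 2 * 3 ^ 1 := by norm_num at hG ⊢; omega
    haveI := Char.burnside_pq 2 3 Nat.prime_two Nat.prime_three 2 1 G h12
    exact hns inferInstance
  have hQc : ∀ x ∈ Q, ∀ y ∈ Q, x * y = y * x := by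
    intro x hx y hy
    by_cases h1 : x = 1
    · rw [h1, one_mul, mul_one]
    · exact (mem_centralizer_singleton_iff.1 ((hC x hx h1).ge hy)).symm
  -- the normalizer
  obtain ⟨N, hN⟩ : ∃ N, N = Subgroup.normalizer (Q : Set G) := ⟨_, rfl⟩
  have hQN : Q ≤ N := hN ▸ le_normalizer
  have hDN : D ≤ N := hN ▸ hNQ ▸ le_sup_right
  haveI hQn : (Q.subgroupOf N).Normal := by
    rw [hN]; exact normal_subgroupOf_of_le_normalizer le_rfl
  have hrel : Q.relIndex N = d := by
    have h1 : Q.relIndex N = Q.relIndex D := by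
      rw [hN, hNQ]
      rw [← relIndex_subgroupOf (L := Subgroup.normalizer (Q : Set G))
          (sup_le le_normalizer (hNQ ▸ le_sup_right)),
        subgroupOf_sup le_normalizer (hNQ ▸ le_sup_right), sup_comm]
      haveI : (Q.subgroupOf (Subgroup.normalizer (Q : Set G))).Normal :=
        normal_subgroupOf_of_le_normalizer le_rfl
      rw [relIndex_sup_right, relIndex_subgroupOf (hNQ ▸ le_sup_right)]
    rw [h1, ← inf_relIndex_right, hQD, relIndex_bot_left, hd]
  have hNcard : Nat.card N = q * d := by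
    have h1 := (Q.subgroupOf N).card_mul_index
    rwa [Nat.card_congr (subgroupOfEquivOfLe hQN).toEquiv, ← hq, show (Q.subgroupOf N).index = d from hrel,
      eq_comm] at h1
  -- `Q` is elementary abelian
  obtain ⟨p, hp, hpq⟩ := Nat.exists_prime_and_dvd (show q ≠ 1 by omega)
  haveI := Fact.mk hp
  let R : Subgroup G :=
    { carrier := {x | x ∈ Q ∧ x ^ p = 1}
      one_mem' := ⟨one_mem Q, one_pow p⟩
      mul_mem' := fun {a b} ha hb => ⟨mul_mem ha.1 hb.1, by
        rw [(show Commute a b from hQc a ha.1 b hb.1).mul_pow, ha.2, hb.2, one_mul]⟩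
      inv_mem' := fun {a} ha => ⟨inv_mem ha.1, by rw [inv_pow, ha.2, inv_one]⟩ }
  have hRQ : R ≤ Q := fun x hx => hx.1
  have hRtop : R = Q := by
    obtain ⟨x, hx⟩ := exists_prime_orderOf_dvd_card' p (hq ▸ hpq)
    have hxR : (x : G) ∈ R := ⟨x.2, by rw [← SubgroupClass.coe_pow, ← hx, pow_orderOf_eq_one]; rfl⟩
    have hx1 : (x : G) ≠ 1 := fun e => hp.one_lt.ne' (by
      rw [← hx, ← Subgroup.orderOf_coe, e, orderOf_one])
    let f : D → {y : R // y ≠ 1} := fun a => ⟨⟨(a : G) * x * (a : G)⁻¹,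
      (mem_normalizer_iff.1 (hN.le (hDN a.2)) x).1 x.2, by rw [conj_pow, hxR.2, mul_one, mul_inv_cancel]⟩,
      fun e => hx1 (conj_eq_one_iff.1 (congrArg Subtype.val e))⟩
    have hf : Function.Injective f := by
      intro a b e
      have e' : (a : G) * x * (a : G)⁻¹ = (b : G) * x * (b : G)⁻¹ :=
        congrArg (fun y : {y : R // y ≠ 1} => (y.1 : G)) e
      have hc : (a : G)⁻¹ * b ∈ Q ⊓ D := by
        refine ⟨(hC x x.2 hx1).le (mem_centralizer_singleton_iff.2 ?_), (mul_mem (inv_mem a.2) b.2 : (a : G)⁻¹ * b ∈ D)⟩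
        calc (a : G)⁻¹ * b * x = (a : G)⁻¹ * ((b : G) * x * (b : G)⁻¹) * b := by group
          _ = (a : G)⁻¹ * ((a : G) * x * (a : G)⁻¹) * b := by rw [e']
          _ = x * ((a : G)⁻¹ * b) := by group
      rw [hQD, mem_bot] at hc
      exact Subtype.ext (inv_mul_eq_one.1 hc)
    have hle := Nat.card_le_card_of_injective f hf
    haveI := Fintype.ofFinite R
    rw [Nat.card_eq_fintype_card (α := {y : R // y ≠ 1}), Fintype.card_subtype_compl,
      Fintype.card_subtype_eq, ← Nat.card_eq_fintype_card, ← hd] at hle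
    obtain ⟨c, hc⟩ := hq ▸ card_dvd_of_le hRQ
    have hRpos : 0 < Nat.card R := Nat.card_pos
    refine eq_of_le_of_card_ge hRQ ?_
    rw [← hq, hc]
    rcases c with _ | _ | c
    · omega
    · omega
    · exfalso
      have h2 : Nat.card R * 2 ≤ q := hc ▸ Nat.mul_le_mul_left _ (by omega)
      omega
  have hQp : ∀ x ∈ Q, x ^ p = 1 := fun x hx => (hRtop.ge hx).2
  have hpd : ¬ p ∣ d := fun hdd => by
    have h1 : p ∣ 1 := (Nat.dvd_add_right (Dvd.dvd.mul_left hdd 2)).1 (hD ▸ hpq)
    exact hp.one_lt.ne' (Nat.dvd_one.1 h1)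
  -- the action
  have hidx : N.index = q + 1 := by
    have h1 := N.card_mul_index
    rw [hNcard] at h1
    have h2 : 2 * (q * d * N.index) = q * (q + 1) * (2 * d) := by
      rw [h1, hG]; congr 1; omega
    nlinarith [Nat.mul_pos (by omega : 0 < q) hdpos]
  haveI := Fintype.ofFinite (G ⧸ N)
  have hΩ : Fintype.card (G ⧸ N) = q + 1 := by
    rw [← Nat.card_eq_fintype_card, ← index_eq_card, hidx]
  let o : G ⧸ N := ((1 : G) : G ⧸ N)
  have hbase : ∀ g : G, g • o = o ↔ g ∈ N := fun g => by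
    rw [MulAction.Quotient.smul_coe, smul_eq_mul, mul_one, QuotientGroup.eq, mul_one, inv_mem_iff]
  have hfix : ∀ x ∈ Q, x • o = o := fun x hx => (hbase x).2 (hQN hx)
  have hfree : ∀ x ∈ Q, ∀ y : G ⧸ N, y ≠ o → x • y = y → x = 1 := by
    intro x hx y hy hxy
    induction y using QuotientGroup.induction_on with
    | H g =>
      by_contra hx1
      rw [MulAction.Quotient.smul_coe, smul_eq_mul, QuotientGroup.eq] at hxy
      have hm : g⁻¹ * x * g ∈ N := by
        have h1 := inv_mem hxy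
        rwa [show ((x * g)⁻¹ * g)⁻¹ = g⁻¹ * x * g by group] at h1
      have hmp : (g⁻¹ * x * g) ^ p = 1 := by
        rw [show g⁻¹ * x * g = g⁻¹ * x * (g⁻¹)⁻¹ by rw [inv_inv], conj_pow, hQp x hx, mul_one, inv_inv,
          inv_mul_cancel]
      have hmQ : g⁻¹ * x * g ∈ Q := by
        have h1 : orderOf (QuotientGroup.mk' (Q.subgroupOf N) ⟨_, hm⟩) ∣ Nat.gcd p d :=
          Nat.dvd_gcd (orderOf_dvd_of_pow_eq_one (by
            rw [← map_pow, show (⟨_, hm⟩ : N) ^ p = 1 from Subtype.ext hmp, map_one]))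
            (hrel ▸ orderOf_dvd_natCard _)
        rw [(hp.coprime_iff_not_dvd.2 hpd), Nat.dvd_one, orderOf_eq_one_iff] at h1
        exact mem_subgroupOf.1 ((QuotientGroup.eq_one_iff _).1 h1)
      refine hy (QuotientGroup.eq.2 (mul_mem ?_ (one_mem N)))
      refine inv_mem (hN ▸ mem_normalizer_iff.2 fun z => ?_)
      have hm1 : g⁻¹ * x * g ≠ 1 := fun e => hx1 (by
        rw [show x = g * (g⁻¹ * x * g) * g⁻¹ by group, e, mul_one, mul_inv_cancel])
      constructor
      · intro hz
        refine (hC x hx hx1).le (mem_centralizer_singleton_iff.2 ?_)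
        have hc := hQc _ hz _ hmQ
        calc g * z * g⁻¹ * x = g * (z * (g⁻¹ * x * g)) * g⁻¹ := by group
          _ = g * ((g⁻¹ * x * g) * z) * g⁻¹ := by rw [hc]
          _ = x * (g * z * g⁻¹) := by group
      · intro hz
        refine (hC _ hmQ hm1).le (mem_centralizer_singleton_iff.2 ?_)
        have hc := hQc _ hz _ hx
        calc z * (g⁻¹ * x * g) = g⁻¹ * (g * z * g⁻¹ * x) * g := by group
          _ = g⁻¹ * (x * (g * z * g⁻¹)) * g := by rw [hc]
          _ = g⁻¹ * x * g * z := by group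
  have hreg : ∀ y z : G ⧸ N, y ≠ o → z ≠ o → ∃! u : Q, (u : G) • y = z := by
    intro y z hy hz
    let f : Q → {w : G ⧸ N // w ≠ o} := fun u => ⟨(u : G) • y, fun e =>
      hy (smul_left_cancel (u : G) (e.trans (hfix _ u.2).symm))⟩
    have hinj : Function.Injective f := fun a b e => by
      have e' : (a : G) • y = (b : G) • y := congrArg Subtype.val e
      refine Subtype.ext (inv_mul_eq_one.1 (hfree _ (mul_mem (inv_mem a.2) b.2) y hy ?_))
      rw [mul_smul, ← e', inv_smul_smul]
    have hbij : Function.Bijective f := by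
      refine (Nat.bijective_iff_injective_and_card f).2 ⟨hinj, ?_⟩
      rw [Nat.card_eq_fintype_card (α := {w : G ⧸ N // w ≠ o}), Fintype.card_subtype_compl,
        Fintype.card_subtype_eq, hΩ, Nat.add_sub_cancel, hq]
    obtain ⟨u, hu⟩ := hbij.2 ⟨z, hz⟩
    exact ⟨u, congrArg Subtype.val hu, fun v hv =>
      hinj (Subtype.ext (hv.trans (congrArg Subtype.val hu).symm))⟩
  have h2t : MulAction.IsMultiplyPretransitive G (G ⧸ N) 2 := by
    refine MulAction.is_two_pretransitive_iff.2 fun {a b c e} hab hce => ?_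
    obtain ⟨g, hg⟩ := MulAction.exists_smul_eq G a o
    obtain ⟨k, hk⟩ := MulAction.exists_smul_eq G c o
    obtain ⟨u, hu, -⟩ := hreg (g • b) (k • e)
      (fun h' => hab (smul_left_cancel g (hg.trans h'.symm)))
      (fun h' => hce (smul_left_cancel k (hk.trans h'.symm)))
    exact ⟨k⁻¹ * u * g, by rw [mul_smul, mul_smul, hg, hfix _ u.2, inv_smul_eq_iff, hk],
      by rw [mul_smul, mul_smul, hu, inv_smul_smul]⟩
  have h3 : ∀ g : G, ∀ a b c : G ⧸ N, a ≠ b → b ≠ c → a ≠ c → g • a = a → g • b = b → g • c = c →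
      g = 1 := by
    have key : ∀ g : G, ∀ b c : G ⧸ N, b ≠ o → c ≠ o → b ≠ c → g • o = o → g • b = b → g • c = c →
        g = 1 := by
      intro g b c hb hc hbc hgo hgb hgc
      obtain ⟨u, hu, huu⟩ := hreg b c hb hc
      have hmem : g * u * g⁻¹ ∈ Q := (mem_normalizer_iff.1 (hN.le ((hbase g).1 hgo)) u).1 u.2
      have hfx : (g * u * g⁻¹) • b = c := by
        rw [mul_smul, mul_smul, inv_smul_eq_iff.2 hgb.symm, hu, hgc]
      have he : g * u * g⁻¹ = u := congrArg Subtype.val (huu ⟨_, hmem⟩ hfx)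
      have hu1 : (u : G) ≠ 1 := fun e => hbc (by rw [← hu, e, one_smul])
      exact hfree g ((hC u u.2 hu1).le (mem_centralizer_singleton_iff.2 (mul_inv_eq_iff_eq_mul.1 he))) b hb hgb
    intro g a b c hab hbc hac ha hb hc
    obtain ⟨k, hk⟩ := MulAction.exists_smul_eq G a o
    have h1 : k * g * k⁻¹ = 1 := by
      refine key _ (k • b) (k • c) (fun e => hab (smul_left_cancel k (hk.trans e.symm)))
        (fun e => hac (smul_left_cancel k (hk.trans e.symm))) (fun e => hbc (smul_left_cancel k e)) ?_ ?_ ?_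
      · rw [mul_smul, mul_smul, inv_smul_eq_iff.2 hk.symm, ha, hk]
      · rw [mul_smul, mul_smul, inv_smul_smul, hb]
      · rw [mul_smul, mul_smul, inv_smul_smul, hc]
    exact conj_eq_one_iff.1 h1
  have hcore : N.normalCore = ⊥ := by
    rw [eq_bot_iff_forall]
    intro g hg
    have hall : ∀ w : G ⧸ N, g • w = w := fun w => by
      have h1 : g ∈ (MulAction.toPermHom G (G ⧸ N)).ker := normalCore_eq_ker (H := N) ▸ hg
      exact Equiv.Perm.congr_fun (MonoidHom.mem_ker.1 h1) w
    obtain ⟨a, b, c, hab, hac, hbc⟩ := Fintype.two_lt_card_iff.1 (show 2 < Fintype.card (G ⧸ N) by omega)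
    exact h3 g a b c hab hbc hac (hall a) (hall b) (hall c)
  have hfaith : FaithfulSMul G (G ⧸ N) := by
    refine ⟨fun {g k} hgk => ?_⟩
    have h1 : g⁻¹ * k ∈ (MulAction.toPermHom G (G ⧸ N)).ker := by
      rw [MonoidHom.mem_ker]
      refine Equiv.Perm.ext fun w => ?_
      show (g⁻¹ * k) • w = w
      rw [mul_smul, ← hgk w, inv_smul_smul]
    rw [← normalCore_eq_ker, hcore, mem_bot] at h1
    exact inv_mul_eq_one.1 h1
  obtain ⟨b, hb⟩ := Fintype.exists_ne_of_one_lt_card (show 1 < Fintype.card (G ⧸ N) by omega) o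
  have hM : Nat.card ↥(MulAction.stabilizer G o ⊓ MulAction.stabilizer G b) = d := by
    have h1 := CfsgLib.Perm.natCard_two_transitive (G := G) h2t hb.symm
    rw [hΩ, Nat.add_sub_cancel] at h1
    have h2 : 2 * Nat.card G = q * (q + 1) * (2 * d) := by rw [hG]; congr 1; omega
    rw [h1] at h2
    have : 0 < q * (q + 1) := by positivity
    nlinarith
  have hnt : MulAction.stabilizer G o ⊓ MulAction.stabilizer G b ≠ ⊥ := fun e => by
    rw [e, card_bot] at hM; omega
  have hZ : Cfsg.IsZassenhausGroup G (G ⧸ N) := by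
    refine ⟨hfaith, h2t, h3, ?_, fun M hMn hMt => ?_⟩
    · obtain ⟨⟨g, hgo, hgb⟩, hg⟩ := ne_bot_iff_exists_ne_one.1 hnt
      exact ⟨g, fun e => hg (Subtype.ext e), o, b, hb.symm, hgo, hgb⟩
    · refine ⟨o, fun e => ?_⟩
      by_cases h1 : M = ⊥
      · obtain ⟨m, hm⟩ := hMt.exists_smul_eq o b
        have hm1 : (m : G) = 1 := mem_bot.1 (h1 ▸ m.2)
        apply hb
        rw [← hm]
        show (m : G) • o = o
        rw [hm1, one_smul]
      · have hev : Even (Nat.card M) := Nat.not_odd_iff_even.1 fun ho => h1 (hodd M hMn ho)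
        obtain ⟨i, hi⟩ := exists_prime_orderOf_dvd_card' (G := M) 2 (even_iff_two_dvd.1 hev)
        rw [← Subgroup.orderOf_coe] at hi
        have hinvol : ∀ w : G, orderOf w = 2 → w ∈ M := fun w hw => by
          obtain ⟨g, hg⟩ := isConj_iff.1 (hconj _ w hi hw)
          exact hg ▸ hMn.conj_mem _ i.2 g
        have hDne : D ≠ ⊥ := fun e' => by rw [e', card_bot] at hd; omega
        obtain ⟨-, u, hu, huD, hud, -⟩ := hX D le_rfl hDne
        obtain ⟨⟨x, hxD⟩, hx1⟩ := ne_bot_iff_exists_ne_one.1 hDne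
        have hxu : orderOf (x * u) = 2 := CfsgLib.Invol.invol_of_mul_self (by
            have e' := hud x hxD
            rw [CfsgLib.Invol.invol_inv hu] at e'
            calc x * u * (x * u) = x * (u * x * u) := by group
              _ = 1 := by rw [e', mul_inv_cancel])
          fun e' => huD (by rw [← inv_eq_of_mul_eq_one_right e']; exact inv_mem hxD)
        have hxM : x ∈ M := by
          have := mul_mem (hinvol _ hxu) (inv_mem (hinvol u hu))
          rwa [mul_inv_cancel_right] at this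
        have hxo : x • o = o := (hbase x).2 (hDN hxD)
        have h4 : (⟨x, hxM⟩ : M) = 1 := mem_bot.1 (e.le hxo)
        exact hx1 (Subtype.ext (congrArg Subtype.val h4 :))
  have hle : Q ≤ MulAction.stabilizer G o := hfix
  have hn : (Q.subgroupOf (MulAction.stabilizer G o)).Normal := by
    refine ⟨fun x hx g => ?_⟩
    rw [mem_subgroupOf] at hx ⊢
    exact (mem_normalizer_iff.1 (hN.le ((hbase g).1 g.2)) x).1 hx
  rcases CfsgLib.Perm.ZassenhausClass.classify hZ hb.symm Q hle hn
    ⟨⟨fun x y => Subtype.ext (hQc x x.2 y y.2)⟩⟩ hreg with ⟨hc, -, -⟩ | ⟨-, K, iK, iKf, -, hcard, hiso⟩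
  · omega
  · refine ⟨K, iK, iKf, ?_, by omega, hiso⟩
    rw [show Fintype.card K = 2 * d + 1 by omega]
    exact ⟨d, rfl⟩

end CfsgLib.InvChar.BSW
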