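import Cfsg.Agent.Lib.Recog.NormCyclic.Std
import Cfsg.Agent.Lib.Recog.NormCyclic.BSWClass

/-!
An involution with centralizer `(A × B)⟨s⟩`, `s` inverting: the Brauer-Suzuki-Wall situation.
-/

set_option autoImplicit false
set_option linter.unusedSectionVars false

namespace CfsgLib.Recog.NormCyclic

open Subgroup

universe u

variable {G : Type u} [Group G] [Finite G]

/-- `C(t)` is the odd part times the 2-group `B`, extended by the involution `s` inverting both. -/
structure Local (h : Hyp G) (t : G) (B : Subgroup G) (s : G) : Prop where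
  ht : orderOf t = 2
  tB : t ∈ B
  two : IsPGroup 2 B
  cent : ∀ b ∈ B, Commute b t
  comm : ∀ a ∈ B, ∀ b ∈ B, a * b = b * a
  uniq : ∀ i ∈ B, orderOf i = 2 → i = t
  cA : ∀ b ∈ B, ∀ x : G, Commute x t → Odd (orderOf x) → Commute x b
  hs : orderOf s = 2
  st : Commute s t
  sB : s ∉ B
  inv : ∀ b ∈ B, s * b * s⁻¹ = b⁻¹
  fix_odd : ∀ x : G, Commute x t → Odd (orderOf x) → Commute s x → x = 1
  dec : ∀ g : G, Commute g t → ∃ a, Commute a t ∧ Odd (orderOf a) ∧ ∃ b ∈ B, g = a * b ∨ g = a * b * s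

/-- A subgroup of `C(t)` containing a Sylow 2-subgroup and the odd part is all of it. -/
theorem cent_decomp (h : Hyp G) {t : G} (ht : orderOf t = 2) (P : Sylow 2 G)
    (hP : ∀ p ∈ (P : Subgroup G), Commute p t) {g : G} (hg : Commute g t) :
    ∃ a, Commute a t ∧ Odd (orderOf a) ∧ ∃ p ∈ (P : Subgroup G), g = a * p := by
  haveI : Fact (Nat.Prime 2) := ⟨Nat.prime_two⟩
  set C := centralizer ({t} : Set G)
  obtain ⟨hn, h2⟩ := h.oddPart_quot ht
  haveI := hn
  set A := (h.oddPart ht).subgroupOf C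
  have hPC : (P : Subgroup G) ≤ C := fun p hp => mem_centralizer_singleton_iff.2 (hP p hp).eq
  have hT : IsPGroup 2 (C ⧸ A) := fun q => by
    obtain ⟨g, rfl⟩ := QuotientGroup.mk_surjective q
    obtain ⟨k, hk⟩ := h2 g
    exact ⟨k, by rw [← QuotientGroup.mk_pow]; exact (QuotientGroup.eq_one_iff _).2 hk⟩
  let Q : Sylow 2 (C ⧸ A) := (P.subtype hPC).mapSurjective (QuotientGroup.mk'_surjective A)
  have htop : (Q : Subgroup (C ⧸ A)) = ⊤ :=
    (Q.3 (Q := ⊤) (hT.to_subgroup ⊤) le_top).symm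
  have hm : QuotientGroup.mk' A ⟨g, mem_centralizer_singleton_iff.2 hg.eq⟩ ∈ (Q : Subgroup (C ⧸ A)) := by
    rw [htop]; exact mem_top _
  obtain ⟨p, hp, hpe⟩ := Subgroup.mem_map.1 hm
  have hpP : (p : G) ∈ (P : Subgroup G) := hp
  have he : (⟨g, mem_centralizer_singleton_iff.2 hg.eq⟩ : C) * p⁻¹ ∈ A := by
    rw [← QuotientGroup.eq_one_iff, QuotientGroup.mk_mul, QuotientGroup.mk_inv]
    exact mul_inv_eq_one.2 hpe.symm
  have he' := mem_subgroupOf.1 he
  exact ⟨g * (p : G)⁻¹, he'.1, he'.2, p, hpP, by rw [inv_mul_cancel_right]⟩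

namespace Local

variable {h : Hyp G} {t s : G} {B : Subgroup G} (L : Local h t B s)
include L

theorem odd_eq_one {x : G} (hx : x ∈ B) (ho : Odd (orderOf x)) : x = 1 := by
  obtain ⟨n, hn⟩ := IsPGroup.iff_orderOf.1 L.two ⟨x, hx⟩
  rw [Subgroup.orderOf_mk] at hn
  rcases n with _ | n
  · exact orderOf_eq_one_iff.1 (by rw [hn, pow_zero])
  · rw [hn] at ho
    exact absurd ho (Nat.not_odd_iff_even.2 (Nat.even_pow.2 ⟨even_two, by omega⟩))

/-- The abelian subgroup `A × B`. -/
def kGrp : Subgroup G where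
  carrier := {g | ∃ a, Commute a t ∧ Odd (orderOf a) ∧ ∃ b ∈ B, g = a * b}
  one_mem' := ⟨1, Commute.one_left t, by rw [orderOf_one]; exact odd_one, 1, one_mem B, (one_mul 1).symm⟩
  mul_mem' := by
    rintro _ _ ⟨a, hat, hao, b, hb, rfl⟩ ⟨c, hct, hco, d, hd, rfl⟩
    exact ⟨a * c, hat.mul_left hct, h.odd_mul L.ht hao hco hat hct, b * d, mul_mem hb hd, by
      rw [mul_assoc, ← mul_assoc b, ← (L.cA b hb c hct hco).eq, mul_assoc c, ← mul_assoc]⟩
  inv_mem' := by
    rintro _ ⟨a, hat, hao, b, hb, rfl⟩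
    exact ⟨a⁻¹, hat.inv_left, by rw [orderOf_inv]; exact hao, b⁻¹, inv_mem hb, by
      rw [mul_inv_rev, ((L.cA b hb a hat hao).inv_inv).eq]⟩

theorem mem_kGrp {g : G} : g ∈ L.kGrp ↔ ∃ a, Commute a t ∧ Odd (orderOf a) ∧ ∃ b ∈ B, g = a * b :=
  Iff.rfl

theorem invert_odd {x : G} (hxt : Commute x t) (hx : Odd (orderOf x)) : s * x * s⁻¹ = x⁻¹ := by
  have hss := CfsgLib.Invol.invol_mul_self L.hs
  have hx' : Commute (s * x * s⁻¹) t := (L.st.mul_left hxt).mul_left L.st.inv_left
  have ho : Odd (orderOf (s * x * s⁻¹)) := by rw [CfsgLib.Invol.orderOf_conj_eq]; exact hx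
  have hc := h.odd_commute L.ht hx ho hxt hx'
  have hfix : Commute s (x * (s * x * s⁻¹)) := by
    have e : s * (x * (s * x * s⁻¹)) * s⁻¹ = x * (s * x * s⁻¹) := by
      calc s * (x * (s * x * s⁻¹)) * s⁻¹ = (s * x * s⁻¹) * ((s * s) * x * (s * s)⁻¹) := by group
        _ = x * (s * x * s⁻¹) := by rw [hss, one_mul, inv_one, mul_one]; exact hc.symm.eq
    exact mul_inv_eq_iff_eq_mul.1 e
  have h1 := L.fix_odd _ (hxt.mul_left hx') (h.odd_mul L.ht hx ho hxt hx') hfix
  exact (inv_eq_of_mul_eq_one_right h1).symm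

theorem invert_k {g : G} (hg : g ∈ L.kGrp) : s * g * s⁻¹ = g⁻¹ := by
  obtain ⟨a, hat, hao, b, hb, rfl⟩ := L.mem_kGrp.1 hg
  rw [← conj_mul, L.invert_odd hat hao, L.inv b hb, mul_inv_rev, ((L.cA b hb a hat hao).inv_inv).eq]

theorem k_comm {x y : G} (hx : x ∈ L.kGrp) (hy : y ∈ L.kGrp) : x * y = y * x := by
  have e := L.invert_k (mul_mem hx hy)
  rw [← conj_mul, L.invert_k hx, L.invert_k hy, ← mul_inv_rev, inv_inj] at e
  exact e.symm

theorem k_commute_t {x : G} (hx : x ∈ L.kGrp) : Commute x t := by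
  obtain ⟨a, hat, -, b, hb, rfl⟩ := L.mem_kGrp.1 hx
  exact hat.mul_left (L.cent b hb)

theorem k_sq {x : G} (hx : x ∈ L.kGrp) (h2 : x * x = 1) : x = 1 ∨ x = t := by
  obtain ⟨a, hat, hao, b, hb, rfl⟩ := L.mem_kGrp.1 hx
  have hc := L.cA b hb a hat hao
  have e : (a * a) * (b * b) = 1 := by
    rw [← h2]; simp only [mul_assoc]; rw [← mul_assoc b a, ← hc.eq, mul_assoc]
  have hbb : b * b = 1 := L.odd_eq_one (mul_mem hb hb) (by
    rw [← inv_eq_of_mul_eq_one_right e, orderOf_inv]; exact h.odd_mul L.ht hao hao hat hat)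
  rw [hbb, mul_one] at e
  have ha1 : a = 1 := by
    have hd : orderOf a ∣ 2 := orderOf_dvd_of_pow_eq_one (by rw [pow_two, e])
    rcases (Nat.dvd_prime Nat.prime_two).1 hd with h1 | h1
    · exact orderOf_eq_one_iff.1 h1
    · rw [h1] at hao; exact absurd hao (by decide)
  rw [ha1, one_mul]
  by_cases hb1 : b = 1
  · exact Or.inl hb1
  · exact Or.inr (L.uniq b hb (orderOf_eq_prime (by rw [pow_two, hbb]) hb1))

theorem t_mem : t ∈ L.kGrp :=
  ⟨1, Commute.one_left t, by rw [orderOf_one]; exact odd_one, t, L.tB, (one_mul t).symm⟩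

theorem s_not_mem : s ∉ L.kGrp := fun hs => by
  rcases L.k_sq hs (CfsgLib.Invol.invol_mul_self L.hs) with e | e
  · exact CfsgLib.Invol.invol_ne_one L.hs e
  · exact L.sB (e ▸ L.tB)

theorem dec_k {g : G} (hg : Commute g t) : g ∈ L.kGrp ∨ ∃ k ∈ L.kGrp, g = k * s := by
  obtain ⟨a, hat, hao, b, hb, e | e⟩ := L.dec g hg
  · exact Or.inl ⟨a, hat, hao, b, hb, e⟩
  · exact Or.inr ⟨a * b, ⟨a, hat, hao, b, hb, rfl⟩, e⟩

theorem invol_cases {i : G} (hi : Commute i t) (hi2 : orderOf i = 2) : i = t ∨ ∃ k ∈ L.kGrp, i = k * s := by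
  rcases L.dec_k hi with hk | hk
  · exact Or.inl ((L.k_sq hk (CfsgLib.Invol.invol_mul_self hi2)).resolve_left (CfsgLib.Invol.invol_ne_one hi2))
  · exact Or.inr hk

/-- The Brauer-Suzuki-Wall hypotheses. -/
theorem setup (hconj : ∀ x y : G, orderOf x = 2 → orderOf y = 2 → IsConj x y) :
    CfsgLib.InvChar.BSW.Setup t L.kGrp s where
  ht := L.ht
  hcomm := fun x hx y hy => L.k_comm hx hy
  hKH := fun x hx => mem_centralizer_singleton_iff.2 (L.k_commute_t hx).eq
  htK := L.t_mem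
  hs := L.hs
  hsH := mem_centralizer_singleton_iff.2 L.st.eq
  hsK := L.s_not_mem
  hH := by
    refine le_antisymm (sup_le (fun x hx => mem_centralizer_singleton_iff.2 (L.k_commute_t hx).eq)
      (zpowers_le.2 (mem_centralizer_singleton_iff.2 L.st.eq))) fun g hg => ?_
    rcases L.dec_k (show Commute g t from mem_centralizer_singleton_iff.1 hg) with hk | ⟨k, hk, rfl⟩
    · exact mem_sup_left hk
    · exact mul_mem (mem_sup_left hk) (mem_sup_right (mem_zpowers s))
  hCK := by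
    refine le_antisymm (fun x hx => ?_) (zpowers_le.2 ⟨L.t_mem, mem_centralizer_singleton_iff.2 L.st.symm.eq⟩)
    obtain ⟨hxK, hxs⟩ := hx
    have e := L.invert_k hxK
    rw [show s * x = x * s from (mem_centralizer_singleton_iff.1 hxs).symm, mul_inv_cancel_right] at e
    rcases L.k_sq hxK (by nth_rw 2 [e]; exact mul_inv_cancel x) with e' | e' <;> rw [e']
    · exact one_mem _
    · exact mem_zpowers t
  hinv := fun x hx => L.invert_k hx
  hTI := by
    intro g hg
    rw [eq_bot_iff_forall]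
    intro z hz
    obtain ⟨hzK, w, hwK, hwz⟩ := hz
    have hwz' : g * w * g⁻¹ = z := hwz
    by_contra hz1
    set t' := g * t * g⁻¹ with ht'
    have ht'2 : orderOf t' = 2 := by rw [ht', CfsgLib.Invol.orderOf_conj_eq, L.ht]
    have hzt' : Commute z t' := by
      rw [ht', ← hwz']
      exact Commute.conj (L.k_commute_t hwK) g
    have hne : t' ≠ t := fun e => hg (mem_centralizer_singleton_iff.2 (mul_inv_eq_iff_eq_mul.1 e))
    rcases Nat.even_or_odd (orderOf z) with hev | hodd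
    · obtain ⟨m, hm⟩ := even_iff_two_dvd.1 hev
      have hm0 : m ≠ 0 := fun e => (orderOf_pos z).ne' (by rw [hm, e, mul_zero])
      have hzm : orderOf (z ^ m) = 2 := by
        rw [orderOf_pow_of_dvd hm0 ⟨2, by rw [hm, mul_comm]⟩, hm, Nat.mul_div_cancel _ (Nat.pos_of_ne_zero hm0)]
      have h1 : z ^ m = t := (L.k_sq (pow_mem hzK m) (CfsgLib.Invol.invol_mul_self hzm)).resolve_left
        (CfsgLib.Invol.invol_ne_one hzm)
      have hwm : orderOf (w ^ m) = 2 := by
        rw [← CfsgLib.Invol.orderOf_conj_eq g, ← conj_pow, hwz', hzm]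
      have h2 : w ^ m = t := (L.k_sq (pow_mem hwK m) (CfsgLib.Invol.invol_mul_self hwm)).resolve_left
        (CfsgLib.Invol.invol_ne_one hwm)
      exact hne (by rw [ht', ← h2, ← conj_pow, hwz', h1, h2])
    · have hzt := L.k_commute_t hzK
      have hCC := h.cent_eq ht'2 L.ht hodd hz1 hzt' hzt
      have hcen : ∀ x, Commute x t → Commute x t' := fun x hx => by
        have : x ∈ centralizer ({t} : Set G) := mem_centralizer_singleton_iff.2 hx.eq
        rw [← hCC] at this
        exact mem_centralizer_singleton_iff.1 this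
      have ht't : Commute t' t := (hcen t (Commute.refl t)).symm
      rcases L.invol_cases ht't ht'2 with e | ⟨k, hk, e⟩
      · exact hne e
      · have hkz : Commute k z := L.k_comm hk hzK
        have hsz : Commute s z := by
          have := hkz.inv_left.mul_left (e ▸ hzt'.symm)
          rwa [inv_mul_cancel_left] at this
        exact hz1 (L.fix_odd z hzt hodd hsz)
  hconj := hconj

end Local

/-- One class of involutions and such a centralizer give `PSL₂(q)`. -/
theorem Std.psl_of_local (S : Std G) {t s : G} {B : Subgroup G} (L : Local S.hyp t B s)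
    (hconj : ∀ x y : G, orderOf x = 2 → orderOf y = 2 → IsConj x y) :
    ∃ (F : Type) (_ : Field F) (_ : Fintype F), Odd (Fintype.card F) ∧ 5 ≤ Fintype.card F ∧
      Nonempty (G ≃* Matrix.ProjectiveSpecialLinearGroup (Fin 2) F) := by
  haveI : Fintype G := Fintype.ofFinite G
  exact CfsgLib.InvChar.BSW.Conclusion.exists_psl_of_class S.notSolvable S.odd_normal hconj
    (L.setup hconj).main

end CfsgLib.Recog.NormCyclic
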