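import Cfsg.Agent.Lib.Recog.NormCyclic.TwoSylow
import Cfsg.Agent.Lib.Recog.NormCyclic.Local
import Cfsg.Agent.Lib.Transfer.Thompson

/-!
Dihedral Sylow 2-subgroups: `PSL₂(q)`, or a normal subgroup of index two isomorphic to `PSL₂(q)`.
-/

set_option autoImplicit false
set_option linter.unusedSectionVars false

namespace CfsgLib.Recog.NormCyclic

open Subgroup

universe u

variable {G : Type u} [Group G] [Finite G]

theorem odd_mem_index_two {M : Subgroup G} (hidx : M.index = 2) {a : G} (ha : Odd (orderOf a)) : a ∈ M := by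
  obtain ⟨k, hk⟩ := ha
  have h2 : a ^ 2 ∈ M := by rw [pow_two]; exact (mul_mem_iff_of_index_two hidx).2 Iff.rfl
  have e : a = a ^ (2 * (k + 1)) := by
    rw [show 2 * (k + 1) = orderOf a + 1 by omega, pow_succ, pow_orderOf_eq_one, one_mul]
  rw [e, pow_mul]
  exact pow_mem h2 _

theorem invol_conj_into (P : Sylow 2 G) {x : G} (hx : orderOf x = 2) :
    ∃ g : G, g * x * g⁻¹ ∈ (P : Subgroup G) := by
  haveI : Fact (Nat.Prime 2) := ⟨Nat.prime_two⟩
  have hpg : IsPGroup 2 (zpowers x) := IsPGroup.of_card (n := 1) (by rw [Nat.card_zpowers, hx, pow_one])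
  obtain ⟨Q, hQ⟩ := hpg.exists_le_sylow
  obtain ⟨g, hg⟩ := MulAction.exists_smul_eq G Q P
  exact ⟨g, by rw [← hg, Sylow.coe_subgroup_smul]; exact ⟨x, hQ (mem_zpowers x), rfl⟩⟩

theorem not_le_of_index_two (P : Sylow 2 G) {M : Subgroup G} (hidx : M.index = 2) :
    ¬ (P : Subgroup G) ≤ M := fun hle => by
  haveI : Fact (Nat.Prime 2) := ⟨Nat.prime_two⟩
  exact P.not_dvd_index (by have := index_dvd_of_le hle; rwa [hidx] at this)

namespace InvData

variable {P B : Subgroup G} {v : G} (D : InvData P B v)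
include D

theorem relIndex_eq : B.relIndex P = 2 := by
  rw [relIndex, index_eq_two_iff]
  refine ⟨⟨v, D.vP⟩, fun g => ?_⟩
  simp only [mem_subgroupOf, Subgroup.coe_mul]
  by_cases hg : (g : G) ∈ B
  · exact Or.inr ⟨hg, fun h' => D.vB (by simpa using mul_mem (inv_mem hg) h')⟩
  · exact Or.inl ⟨D.mul_v g g.2 hg, hg⟩

theorem mul_mem_of_out {g r : G} (hg : g ∈ P) (hgB : g ∉ B) (hr : r ∈ P) (hrB : r ∉ B) : g * r ∈ B := by
  have h1 := mul_mem (D.mul_v g hg hgB) (inv_mem (D.mul_v r hr hrB))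
  rw [mul_inv_rev, ← mul_assoc, mul_inv_cancel_right, CfsgLib.Invol.invol_inv (D.outside r hr hrB).1] at h1
  exact h1

end InvData

variable {P : Sylow 2 G} {B : Subgroup G} {v y : G}

/-- Every reflection gives the local situation at the central involution. -/
theorem Std.dihedral_local (S : Std G) (D : InvData (P : Subgroup G) B v) (hy : y ∈ B) (hy4 : orderOf y = 4)
    (huniq : ∀ i ∈ B, orderOf i = 2 → i = y * y) {r : G} (hr : r ∈ (P : Subgroup G)) (hrB : r ∉ B) :
    Local S.hyp (y * y) B r := by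
  have hu : orderOf (y * y) = 2 := orderOf_sq_of_four hy4
  have hcent : ∀ p ∈ (P : Subgroup G), Commute p (y * y) := fun p hp => by
    by_cases hpB : p ∈ B
    · exact D.comm p hpB _ (mul_mem hy hy)
    · have e := (D.outside p hp hpB).2 _ (mul_mem hy hy)
      rw [CfsgLib.Invol.invol_inv hu] at e
      exact mul_inv_eq_iff_eq_mul.1 e
  have hB2 : IsPGroup 2 B := P.2.to_le D.le
  have hcA : ∀ b ∈ B, ∀ x : G, Commute x (y * y) → Odd (orderOf x) → Commute x b := by
    intro b hb x hxt hx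
    by_cases hbb : b * b = 1
    · by_cases hb1 : b = 1
      · rw [hb1]; exact Commute.one_right x
      · rw [huniq b hb (orderOf_eq_prime (by rw [pow_two, hbb]) hb1)]; exact hxt
    · obtain ⟨r, t, n, hn, hr', -, ht, hrt, -, -, htg, -⟩ := exists_root_zpowers hB2 hb hbb
      have e : t = y * y := huniq t ((zpowers_le.2 hb) htg) ht
      exact S.hyp.commute_odd hu (e ▸ htg) ⟨_, hn⟩ hx hxt
  refine ⟨hu, mul_mem hy hy, hB2, fun b hb => hcent b (D.le hb), D.comm, huniq, hcA, (D.outside r hr hrB).1,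
    hcent r hr, hrB, (D.outside r hr hrB).2, ?_, ?_⟩
  · intro x hxt hx hrx
    by_contra hx1
    have e := S.hyp.cent_eq (D.outside r hr hrB).1 hu hx hx1 hrx.symm hxt
    have hyc : y ∈ centralizer ({r} : Set G) := by
      rw [e]; exact mem_centralizer_singleton_iff.2 (hcent y (D.le hy)).eq
    have e2 := (D.outside r hr hrB).2 y hy
    rw [← (mem_centralizer_singleton_iff.1 hyc : y * r = r * y), mul_inv_cancel_right] at e2
    exact root_ne_inv hu rfl e2
  · intro g hg
    obtain ⟨a, hat, hao, p, hp, rfl⟩ := cent_decomp S.hyp hu P hcent hg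
    by_cases hpB : p ∈ B
    · exact ⟨a, hat, hao, p, hpB, Or.inl rfl⟩
    · refine ⟨a, hat, hao, p * r, D.mul_mem_of_out hp hpB hr hrB, Or.inr ?_⟩
      rw [← mul_assoc, mul_assoc, CfsgLib.Invol.invol_mul_self (D.outside r hr hrB).1, mul_one]

/-- Dihedral Sylow 2-subgroup: the group or a normal subgroup of index two is `PSL₂(q)`. -/
theorem Std.psl_of_dihedral (S : Std G) (D : InvData (P : Subgroup G) B v) (hy : y ∈ B) (hy4 : orderOf y = 4)
    (huniq : ∀ i ∈ B, orderOf i = 2 → i = y * y) :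
    (∃ (F : Type) (_ : Field F) (_ : Fintype F), Odd (Fintype.card F) ∧ 5 ≤ Fintype.card F ∧
      Nonempty (G ≃* Matrix.ProjectiveSpecialLinearGroup (Fin 2) F)) ∨
    ∃ M : Subgroup G, M.Normal ∧ M.index = 2 ∧
      ∃ (F : Type) (_ : Field F) (_ : Fintype F), Odd (Fintype.card F) ∧ 5 ≤ Fintype.card F ∧
        Nonempty (M ≃* Matrix.ProjectiveSpecialLinearGroup (Fin 2) F) := by
  classical
  have hu : orderOf (y * y) = 2 := orderOf_sq_of_four hy4
  by_cases hall : ∀ x : G, orderOf x = 2 → IsConj (y * y) x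
  · exact Or.inl (S.psl_of_local (S.dihedral_local D hy hy4 huniq D.vP D.vB)
      fun a b ha hb => (hall a ha).symm.trans (hall b hb))
  right
  push Not at hall
  obtain ⟨x, hx, hxu⟩ := hall
  obtain ⟨g, hg⟩ := invol_conj_into P hx
  have hr0 : g * x * g⁻¹ ∉ B := fun hB => hxu (by
    rw [← huniq _ hB (by rw [CfsgLib.Invol.orderOf_conj_eq, hx])]
    exact (isConj_iff.2 ⟨g, rfl⟩).symm)
  rcases CfsgLib.Transfer.thompson_transfer_involution P D.le D.relIndex_eq
    (by rw [pow_two]; exact CfsgLib.Invol.invol_mul_self (D.outside _ hg hr0).1) hg with ⟨M, hMn, hMi, -⟩ | ⟨k, hk⟩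
  swap
  · exfalso
    refine hxu ?_
    rw [← huniq _ hk (by rw [CfsgLib.Invol.orderOf_conj_eq, CfsgLib.Invol.orderOf_conj_eq, hx])]
    exact (isConj_iff.2 ⟨k * g, by group⟩).symm
  haveI := hMn
  refine ⟨M, hMn, hMi, ?_⟩
  have S' := S.of_index_two M hMi
  set u := y * y with hu_def
  have huM : u ∈ M := (mul_mem_iff_of_index_two hMi).2 Iff.rfl
  have hcu : ∀ b ∈ B, Commute b u := fun b hb => D.comm b hb _ (mul_mem hy hy)
  -- a reflection in `M` conjugate to `u` in `M`
  obtain ⟨r, hrP, hrB, m₀, hm₀, hr⟩ : ∃ r ∈ (P : Subgroup G), r ∉ B ∧ ∃ m ∈ M, m * u * m⁻¹ = r := by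
    obtain ⟨m, hm, hmne⟩ := S'.exists_conj_commute (t := (⟨u, huM⟩ : M)) (by rw [Subgroup.orderOf_mk]; exact hu)
    have hc : Commute ((m : G) * u * (m : G)⁻¹) u := (congrArg Subtype.val hm.eq).symm
    have ho : orderOf ((m : G) * u * (m : G)⁻¹) = 2 := by rw [CfsgLib.Invol.orderOf_conj_eq, hu]
    have L := S.dihedral_local D hy hy4 huniq D.vP D.vB
    rcases L.invol_cases hc ho with e | ⟨k, hk, e⟩
    · exact absurd (Subtype.ext e) hmne
    obtain ⟨a, hat, hao, b, hb, rfl⟩ := L.mem_kGrp.1 hk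
    have hbvB : b * v ∉ B := fun h' => D.vB (by simpa using mul_mem (inv_mem hb) h')
    have hbvP : b * v ∈ (P : Subgroup G) := mul_mem (D.le hb) D.vP
    have L' := S.dihedral_local D hy hy4 huniq hbvP hbvB
    obtain ⟨j, hj⟩ := hao
    set c := a ^ (j + 1) with hc'
    have hcc : c * c = a := by
      rw [hc', ← pow_add, show j + 1 + (j + 1) = orderOf a + 1 by omega, pow_succ, pow_orderOf_eq_one, one_mul]
    have hco : Odd (orderOf c) := Odd.of_dvd_nat (show Odd (orderOf a) from ⟨j, hj⟩) (orderOf_pow_dvd _)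
    have hinv : b * v * c⁻¹ * (b * v)⁻¹ = c := by
      rw [← conj_inv, L'.invert_odd (hat.pow_left _) hco, inv_inv]
    refine ⟨b * v, hbvP, hbvB, c⁻¹ * m, mul_mem (inv_mem (odd_mem_index_two hMi hco)) m.2, ?_⟩
    calc c⁻¹ * m * u * (c⁻¹ * (m : G))⁻¹ = c⁻¹ * ((m : G) * u * (m : G)⁻¹) * c := by group
      _ = c⁻¹ * (c * c * (b * v)) * c := by rw [e, hcc, mul_assoc a b v]
      _ = c * (b * v * c * (b * v)⁻¹) * (b * v) := by group
      _ = b * v := by
        rw [L'.invert_odd (hat.pow_left _) hco, mul_inv_cancel, one_mul]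
  have hrM : r ∈ M := hr ▸ mul_mem (mul_mem hm₀ huM) (inv_mem hm₀)
  have hBM : ¬ B ≤ M := fun hle => not_le_of_index_two P hMi fun p hp => by
    by_cases hpB : p ∈ B
    · exact hle hpB
    · simpa using mul_mem (hle (D.mul_mem_of_out hp hpB hrP hrB)) (inv_mem hrM)
  -- `B ∩ M` consists of squares
  have hsq : ∀ d ∈ B, d ∈ M → ∃ c ∈ B, c * c = d := by
    let f : B →* B :=
      { toFun := fun b => b * b
        map_one' := one_mul 1
        map_mul' := fun a b => Subtype.ext (by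
          show (a : G) * b * (a * b) = a * a * (b * b)
          rw [mul_assoc (a : G), ← mul_assoc (b : G), D.comm b b.2 a a.2]; group) }
    have hker : Nat.card f.ker ≤ 2 := by
      let j : f.ker → Bool := fun b => decide (((b : B) : G) = 1)
      refine le_trans (Nat.card_le_card_of_injective j fun a b e => ?_) (by simp)
      have hz : ∀ c : f.ker, ((c : B) : G) = 1 ∨ ((c : B) : G) = u := fun c => by
        by_cases h1 : ((c : B) : G) = 1
        · exact Or.inl h1
        · exact Or.inr (huniq _ (c : B).2 (CfsgLib.Invol.invol_of_mul_self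
            (congrArg Subtype.val (MonoidHom.mem_ker.1 c.2)) h1))
      refine Subtype.ext (Subtype.ext ?_)
      have e' : ((a : B) : G) = 1 ↔ ((b : B) : G) = 1 := decide_eq_decide.1 e
      rcases hz a with ea | ea <;> rcases hz b with eb | eb <;> rw [ea, eb] at e' ⊢
      · exact absurd (e'.1 rfl) (CfsgLib.Invol.invol_ne_one hu)
      · exact absurd (e'.2 rfl) (CfsgLib.Invol.invol_ne_one hu)
    have hmul : Nat.card f.range * Nat.card f.ker = Nat.card B := by
      rw [← Nat.card_congr (QuotientGroup.quotientKerEquivRange f).toEquiv, ← card_eq_card_quotient_mul_card_subgroup]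
    have hle : f.range ≤ M.subgroupOf B := by
      rintro _ ⟨b, rfl⟩
      exact mem_subgroupOf.2 ((mul_mem_iff_of_index_two hMi).2 Iff.rfl)
    have hne : (M.subgroupOf B).index ≠ 1 := fun e => hBM (subgroupOf_eq_top.1 (index_eq_one.1 e))
    have hidx2 : 2 ≤ (M.subgroupOf B).index := by
      have : (M.subgroupOf B).index ≠ 0 := index_ne_zero_of_finite
      omega
    have hmulM := (M.subgroupOf B).card_mul_index
    have heq : f.range = M.subgroupOf B := eq_of_le_of_card_ge hle (by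
      have h1 : Nat.card ↥(M.subgroupOf B) * 2 ≤ Nat.card B := hmulM ▸ Nat.mul_le_mul_left _ hidx2
      have h2 : Nat.card B ≤ Nat.card f.range * 2 := hmul ▸ Nat.mul_le_mul_left _ hker
      omega)
    intro d hd hdM
    obtain ⟨c, hc⟩ : (⟨d, hd⟩ : B) ∈ f.range := heq ▸ mem_subgroupOf.2 hdM
    exact ⟨c, c.2, congrArg Subtype.val hc⟩
  -- reflections in `M` are conjugate to `u` in `M`
  have hrefl : ∀ p ∈ (P : Subgroup G), p ∉ B → p ∈ M → ∃ m ∈ M, m * u * m⁻¹ = p := by
    intro p hp hpB hpM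
    obtain ⟨c, hc, hcc⟩ := hsq _ (D.mul_mem_of_out hp hpB hrP hrB) (mul_mem hpM hrM)
    have hrc := (D.outside r hrP hrB).2 c⁻¹ (inv_mem hc)
    rw [inv_inv, mul_inv_eq_iff_eq_mul] at hrc
    refine ⟨c * m₀ * c⁻¹, hMn.conj_mem _ hm₀ c, ?_⟩
    calc c * m₀ * c⁻¹ * u * (c * m₀ * c⁻¹)⁻¹ = c * m₀ * (c⁻¹ * u * c) * m₀⁻¹ * c⁻¹ := by group
      _ = c * (m₀ * u * m₀⁻¹) * c⁻¹ := by
        rw [mul_assoc c⁻¹, ← (hcu c hc).eq, inv_mul_cancel_left]; group
      _ = p := by
        rw [hr, mul_assoc, hrc, ← mul_assoc, hcc, mul_assoc, CfsgLib.Invol.invol_mul_self (D.outside r hrP hrB).1,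
          mul_one]
  obtain ⟨c', hc'P, hc'M⟩ := Set.not_subset.1 (not_le_of_index_two P hMi)
  have hclass : ∀ i : M, orderOf i = 2 → IsConj (⟨u, huM⟩ : M) i := by
    intro i hi
    rw [← Subgroup.orderOf_coe] at hi
    obtain ⟨k, hk⟩ := invol_conj_into P hi
    obtain ⟨m, hm, hmi⟩ : ∃ m ∈ M, m * i * m⁻¹ ∈ (P : Subgroup G) := by
      by_cases hkM : k ∈ M
      · exact ⟨k, hkM, hk⟩
      · refine ⟨c' * k, (mul_mem_iff_of_index_two hMi).2 ⟨fun h' => absurd h' hc'M, fun h' => absurd h' hkM⟩, ?_⟩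
        rw [show c' * k * i * (c' * k)⁻¹ = c' * (k * i * k⁻¹) * c'⁻¹ by group]
        exact mul_mem (mul_mem hc'P hk) (inv_mem hc'P)
    have hiM : m * i * m⁻¹ ∈ M := mul_mem (mul_mem hm i.2) (inv_mem hm)
    have ho : orderOf (m * i * m⁻¹) = 2 := by rw [CfsgLib.Invol.orderOf_conj_eq, hi]
    obtain ⟨n, hn, hne⟩ : ∃ n ∈ M, n * u * n⁻¹ = m * i * m⁻¹ := by
      by_cases hB : m * i * m⁻¹ ∈ B
      · exact ⟨1, one_mem M, by rw [huniq _ hB ho]; group⟩
      · exact hrefl _ hmi hB hiM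
    refine isConj_iff.2 ⟨⟨m⁻¹ * n, mul_mem (inv_mem hm) hn⟩, Subtype.ext ?_⟩
    show m⁻¹ * n * u * (m⁻¹ * n)⁻¹ = i
    rw [show m⁻¹ * n * u * (m⁻¹ * n)⁻¹ = m⁻¹ * (n * u * n⁻¹) * m by group, hne]
    group
  -- the local situation in `M`
  have L := S.dihedral_local D hy hy4 huniq hrP hrB
  have hcomm : ∀ {a b : M}, Commute a b → Commute (a : G) b := fun h => congrArg Subtype.val h.eq
  have hlift : ∀ {a b : M}, Commute (a : G) b → Commute a b := fun h => Subtype.ext h.eq
  have L' : Local S'.hyp (⟨u, huM⟩ : M) (B.subgroupOf M) ⟨r, hrM⟩ :=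
    { ht := by rw [Subgroup.orderOf_mk]; exact hu
      tB := mem_subgroupOf.2 (mul_mem hy hy)
      two := L.two.comap_of_injective M.subtype M.subtype_injective
      cent := fun b hb => hlift (L.cent b (mem_subgroupOf.1 hb))
      comm := fun a ha b hb => Subtype.ext (L.comm a (mem_subgroupOf.1 ha) b (mem_subgroupOf.1 hb))
      uniq := fun i hi hi2 => Subtype.ext (L.uniq i (mem_subgroupOf.1 hi) (by rw [Subgroup.orderOf_coe]; exact hi2))
      cA := fun b hb x hx hxo => hlift (L.cA b (mem_subgroupOf.1 hb) x (hcomm hx) (by rwa [Subgroup.orderOf_coe]))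
      hs := by rw [Subgroup.orderOf_mk]; exact L.hs
      st := hlift L.st
      sB := fun h' => L.sB (mem_subgroupOf.1 h')
      inv := fun b hb => Subtype.ext (L.inv b (mem_subgroupOf.1 hb))
      fix_odd := fun x hx hxo hsx => Subtype.ext
        (L.fix_odd x (hcomm hx) (by rwa [Subgroup.orderOf_coe]) (hcomm hsx))
      dec := fun g hg => by
        obtain ⟨a, hat, hao, b, hb, e⟩ := L.dec g (hcomm hg)
        have haM := odd_mem_index_two hMi hao
        have hbM : b ∈ M := by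
          rcases e with e | e
          · rw [show b = a⁻¹ * g by rw [e]; group]; exact mul_mem (inv_mem haM) g.2
          · rw [show b = a⁻¹ * g * r⁻¹ by rw [e]; group]
            exact mul_mem (mul_mem (inv_mem haM) g.2) (inv_mem hrM)
        exact ⟨⟨a, haM⟩, hlift hat, by rwa [Subgroup.orderOf_mk], ⟨b, hbM⟩, mem_subgroupOf.2 hb,
          e.imp (fun h' => Subtype.ext h') (fun h' => Subtype.ext h')⟩ }
  exact S'.psl_of_local L' fun a b ha hb => (hclass a ha).symm.trans (hclass b hb)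

end CfsgLib.Recog.NormCyclic
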