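import Cfsg.Agent.Lib.Recog.NormCyclic.Std

/-!
The shape of a Sylow 2-subgroup: commutative, dihedral, or generalized dihedral with two squares.
-/

set_option autoImplicit false
set_option linter.unusedSectionVars false

namespace CfsgLib.Recog.NormCyclic

open Subgroup

universe u

variable {G : Type u} [Group G]

/-- `P` is a generalized dihedral extension of the commutative `B` by the involution `v`. -/
structure InvData (P B : Subgroup G) (v : G) : Prop where
  le : B ≤ P
  vP : v ∈ P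
  vB : v ∉ B
  comm : ∀ a ∈ B, ∀ b ∈ B, a * b = b * a
  outside : ∀ g ∈ P, g ∉ B → orderOf g = 2 ∧ ∀ b ∈ B, g * b * g⁻¹ = b⁻¹
  mul_v : ∀ g ∈ P, g ∉ B → g * v ∈ B

/-- Roots in `P` of two different involutions. -/
def TwoSquares (P : Subgroup G) : Prop :=
  ∃ y ∈ P, ∃ w ∈ P, orderOf y = 4 ∧ orderOf w = 4 ∧ y * y ≠ w * w

variable [Finite G]

theorem sq_one_zpowers {g x : G} {n : ℕ} (hn : orderOf g = 2 ^ (n + 1)) (hx : x ∈ zpowers g)
    (hx2 : x * x = 1) : x = 1 ∨ x = g ^ 2 ^ n := by
  by_cases hx1 : x = 1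
  · exact Or.inl hx1
  have ho : orderOf x = 2 := orderOf_eq_prime (by rw [pow_two, hx2]) hx1
  obtain ⟨k, hk⟩ := (mem_powers_iff_mem_zpowers.2 (pow_mem_of_prime_order Nat.prime_two hn hx ho) :
    g ^ 2 ^ n ∈ Submonoid.powers x)
  have hk' : x ^ (k % 2) = g ^ 2 ^ n := by
    rw [show k % 2 = k % orderOf x by rw [ho], pow_mod_orderOf]; exact hk
  rcases Nat.mod_two_eq_zero_or_one k with e | e <;> rw [e] at hk'
  · rw [pow_zero] at hk'
    have h1 := orderOf_dvd_of_pow_eq_one hk'.symm
    rw [hn] at h1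
    have := Nat.le_of_dvd (pow_pos two_pos n) h1
    have := Nat.pow_lt_pow_right one_lt_two (Nat.lt_succ_self n)
    omega
  · exact Or.inr (by rw [← hk', pow_one])

/-- An element of a 2-group which is not an involution has a root among its powers. -/
theorem exists_root_zpowers {P : Subgroup G} (hP : IsPGroup 2 P) {g : G} (hg : g ∈ P) (h2 : g * g ≠ 1) :
    ∃ r t : G, ∃ n : ℕ, orderOf g = 2 ^ (n + 2) ∧ r = g ^ 2 ^ n ∧ t = g ^ 2 ^ (n + 1) ∧
      orderOf t = 2 ∧ r * r = t ∧ orderOf r = 4 ∧ r ∈ zpowers g ∧ t ∈ zpowers g ∧ r ∈ P := by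
  obtain ⟨n, hn⟩ := IsPGroup.iff_orderOf.1 hP ⟨g, hg⟩
  rw [Subgroup.orderOf_mk] at hn
  obtain ⟨n, rfl⟩ : ∃ k, n = k + 2 := ⟨n - 2, by
    rcases n with _ | _ | n
    · exact absurd (by rw [orderOf_eq_one_iff.1 (hn.trans (pow_zero 2)), one_mul]) h2
    · refine absurd ?_ h2
      rw [← pow_two, show 2 = orderOf g by rw [hn]; rfl, pow_orderOf_eq_one]
    · omega⟩
  obtain ⟨ht, hr⟩ := exists_root_pow hn
  exact ⟨_, _, n, hn, rfl, rfl, ht, hr, root_order ht hr, pow_mem (mem_zpowers g) _,
    pow_mem (mem_zpowers g) _, pow_mem hg _⟩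

theorem orderOf_sq_of_four {y : G} (hy : orderOf y = 4) : orderOf (y * y) = 2 := by
  rw [← pow_two, orderOf_pow_of_dvd two_ne_zero (hy ▸ by norm_num), hy]

/-- A 2-group of this kind with central roots and involutions is commutative. -/
theorem commute_of_small (h : Hyp G) {P : Subgroup G} (hP : IsPGroup 2 P)
    (hroot : ∀ x ∈ P, orderOf x = 4 → ∀ g ∈ P, Commute x g)
    (hinvol : ∀ i ∈ P, i * i = 1 → ∀ g ∈ P, Commute i g) :
    ∀ a b : G, a ∈ P → b ∈ P → Commute a b := by
  suffices H : ∀ N : ℕ, ∀ a b : G, a ∈ P → b ∈ P → orderOf a + orderOf b ≤ N → Commute a b from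
    fun a b ha hb => H _ a b ha hb le_rfl
  intro N
  induction N with
  | zero => intro a b _ _ hN; have := orderOf_pos a; omega
  | succ N ih =>
    intro a b ha hb hN
    wlog hle : orderOf a ≤ orderOf b generalizing a b
    · exact (this b a hb ha (by omega) (le_of_not_ge hle)).symm
    by_cases ha2 : a * a = 1
    · exact hinvol a ha ha2 b hb
    by_cases hb2 : b * b = 1
    · exact (hinvol b hb hb2 a ha).symm
    by_contra hne
    obtain ⟨r, t, n, hn, hr, -, ht, hrt, hr4, -, hta, hrP⟩ := exists_root_zpowers hP ha ha2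
    obtain ⟨r', t', n', hn', -, -, ht', hrt', hr4', -, htb, hrP'⟩ := exists_root_zpowers hP hb hb2
    obtain ⟨hca, hcb⟩ := commutator_mem_zpowers
      (h.conj_mem_zpowers ht hta (hrt ▸ (hroot r hrP hr4 b hb).symm.mul_right (hroot r hrP hr4 b hb).symm)
        (mem_zpowers a))
      (h.conj_mem_zpowers ht' htb
        (hrt' ▸ (hroot r' hrP' hr4' a ha).symm.mul_right (hroot r' hrP' hr4' a ha).symm) (mem_zpowers b))
    set c := b * a * b⁻¹ * a⁻¹ with hc
    have hcx : Commute c a := commute_of_mem_zpowers hca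
    have hcy : Commute c b := commute_of_mem_zpowers hcb
    have hyx : b * a = c * (a * b) := by rw [hc]; group
    have hc1 : c ≠ 1 := fun e => hne (by rw [e, one_mul] at hyx; exact hyx.symm)
    have hc2 : c ^ 2 = 1 := by
      have hlt : orderOf (a ^ 2) < orderOf a := by
        rw [orderOf_pow_of_dvd two_ne_zero (hn ▸ dvd_pow_self 2 (by omega))]
        exact Nat.div_lt_self (orderOf_pos a) one_lt_two
      have hcomm : Commute (a ^ 2) b := ih (a ^ 2) b (pow_mem ha 2) hb (by omega)
      have e : (b * a * b⁻¹) ^ 2 = c ^ 2 * a ^ 2 := by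
        rw [show b * a * b⁻¹ = c * a by rw [hc]; group, hcx.mul_pow]
      rw [conj_pow, ← hcomm.eq, mul_inv_cancel_right] at e
      exact mul_eq_right.1 e.symm
    have hxa : a ^ 2 ^ (n + 1) ∈ zpowers b :=
      (zpowers_le.2 hcb) (pow_mem_of_prime_order Nat.prime_two hn hca (orderOf_eq_prime hc2 hc1))
    obtain ⟨k, hk⟩ := (mem_powers_iff_mem_zpowers.2 (inv_mem hxa) : (a ^ 2 ^ (n + 1))⁻¹ ∈ Submonoid.powers b)
    have hk' : b ^ k = (a ^ 2 ^ (n + 1))⁻¹ := hk
    have hkd : 2 ^ (n' + 2) ∣ k * 2 := by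
      rw [← hn']; apply orderOf_dvd_of_pow_eq_one
      rw [pow_mul, hk', inv_pow, ← pow_mul, ← pow_succ, ← hn, pow_orderOf_eq_one, inv_one]
    obtain ⟨l, rfl⟩ : 2 ^ (n + 1) ∣ k := by
      refine Nat.dvd_of_mul_dvd_mul_right two_pos (Dvd.dvd.trans ?_ hkd)
      rw [← pow_succ]
      exact pow_dvd_pow 2 (by
        have := (Nat.pow_le_pow_iff_right one_lt_two).1 (hn ▸ hn' ▸ hle)
        omega)
    rcases n with _ | m
    · exact hne (hroot a ha (by rw [hn]; rfl) b hb)
    have hrel : b ^ l * a = c ^ l * (a * b ^ l) := pow_mul_class_two hyx hcy l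
    have hch : 2 ∣ (2 ^ (m + 1 + 1)).choose 2 :=
      Nat.prime_two.dvd_choose_pow (by norm_num) (by
        have : 4 ≤ 2 ^ (m + 1 + 1) := by
          calc 4 = 2 ^ 2 := rfl
            _ ≤ _ := Nat.pow_le_pow_right two_pos (by omega)
        omega)
    have hpow1 : (a * b ^ l) ^ 2 ^ (m + 1 + 1) = 1 := by
      obtain ⟨q, hq⟩ := hch
      rw [mul_pow_class_two hrel (hcx.pow_left l) ((hcy.pow_pow l l)), hq, ← pow_mul c,
        show l * (2 * q) = 2 * (l * q) by ring, pow_mul c, hc2, one_pow, one_mul,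
        ← pow_mul b, mul_comm l, hk', mul_inv_cancel]
    have hlt : orderOf (a * b ^ l) < orderOf a :=
      lt_of_le_of_lt (Nat.le_of_dvd (pow_pos two_pos _) (orderOf_dvd_of_pow_eq_one hpow1))
        (hn ▸ Nat.pow_lt_pow_right one_lt_two (by omega))
    have hc' : Commute (a * b ^ l) b := ih _ b (mul_mem ha (pow_mem hb l)) hb (by omega)
    refine hne ?_
    have := hc'.mul_left ((Commute.refl b).pow_left l).inv_left
    rwa [mul_inv_cancel_right] at this

namespace Std

variable (S : Std G)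
include S

/-- One square: the dihedral case. -/
theorem shape_one (P : Sylow 2 G) {y : G} (hyP : y ∈ (P : Subgroup G)) (hy4 : orderOf y = 4)
    (hone : ∀ r ∈ (P : Subgroup G), orderOf r = 4 → r * r = y * y) :
    ∃ (B : Subgroup G) (v : G), InvData (P : Subgroup G) B v ∧ y ∈ B ∧
      ∀ i ∈ B, orderOf i = 2 → i = y * y := by
  have h := S.hyp
  haveI : Fact (Nat.Prime 2) := ⟨Nat.prime_two⟩
  set u := y * y with hu_def
  have hu : orderOf u = 2 := orderOf_sq_of_four hy4
  have hy : y * y = u := hu_def.symm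
  have huP : u ∈ (P : Subgroup G) := mul_mem hyP hyP
  have hcen : ∀ g ∈ (P : Subgroup G), Commute g u := fun g hg => by
    have e := hone _ (mul_mem (mul_mem hg hyP) (inv_mem hg))
      (by rw [CfsgLib.Invol.orderOf_conj_eq, hy4])
    rw [conj_mul, hy] at e
    exact mul_inv_eq_iff_eq_mul.1 e
  set C := centralizer ({u} : Set G)
  have hPC : (P : Subgroup G) ≤ C := fun g hg => mem_centralizer_singleton_iff.2 (hcen g hg).eq
  -- a conjugate of `u` in `P`
  obtain ⟨v, w, hvP, hvu, hv, hw⟩ : ∃ v w : G, v ∈ (P : Subgroup G) ∧ v ≠ u ∧ orderOf v = 2 ∧ w * w = v := by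
    obtain ⟨g, hg, hgne⟩ := S.exists_conj_commute hu
    set v₀ := g * u * g⁻¹
    have hv₀ : orderOf v₀ = 2 := by rw [CfsgLib.Invol.orderOf_conj_eq, hu]
    have hpg : IsPGroup 2 (zpowers (⟨v₀, mem_centralizer_singleton_iff.2 hg.symm.eq⟩ : C)) :=
      IsPGroup.of_card (n := 1) (by rw [Nat.card_zpowers, Subgroup.orderOf_mk, hv₀, pow_one])
    obtain ⟨Q, hQ⟩ := hpg.exists_le_sylow
    obtain ⟨c, hc⟩ := MulAction.exists_smul_eq C Q (P.subtype hPC)
    have hcv : ((c : G) * v₀ * (c : G)⁻¹) ∈ (P : Subgroup G) := by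
      have h1 : c * ⟨v₀, mem_centralizer_singleton_iff.2 hg.symm.eq⟩ * c⁻¹ ∈ ((c • Q : Sylow 2 C) : Subgroup C) := by
        rw [Sylow.coe_subgroup_smul]
        exact ⟨_, hQ (mem_zpowers _), rfl⟩
      rw [hc] at h1
      exact h1
    have hcu : (c : G) * u * (c : G)⁻¹ = u := by
      rw [mem_centralizer_singleton_iff.1 c.2, mul_inv_cancel_right]
    refine ⟨(c : G) * v₀ * (c : G)⁻¹, (c : G) * (g * y * g⁻¹) * (c : G)⁻¹, hcv, fun e => hgne ?_,
      by rw [CfsgLib.Invol.orderOf_conj_eq, hv₀], by rw [conj_mul, conj_mul, hy]⟩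
    calc v₀ = (c : G)⁻¹ * ((c : G) * v₀ * (c : G)⁻¹) * c := by group
      _ = (c : G)⁻¹ * ((c : G) * u * (c : G)⁻¹) * c := by rw [e, hcu]
      _ = u := by group
  have hvu' : Commute v u := hcen v hvP
  have hvv := CfsgLib.Invol.invol_mul_self hv
  have hvi := CfsgLib.Invol.invol_inv hv
  -- roots of `u` in `P` and `w` do not commute
  have hflip : ∀ r ∈ (P : Subgroup G), orderOf r = 4 →
      u * w * u = w⁻¹ ∧ v * r * v = r⁻¹ ∧ ¬ Commute r w := by
    intro r hr hr4
    have hru : r * r = u := (hone r hr hr4).trans hy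
    have hnc : ¬ Commute r w := by
      intro hc
      have hr2 : IsPGroup 2 (zpowers r) := IsPGroup.of_card (n := 2) (by rw [Nat.card_zpowers, hr4]; rfl)
      have hw2 : IsPGroup 2 (zpowers w) :=
        IsPGroup.of_card (n := 2) (by rw [Nat.card_zpowers, root_order hv hw]; rfl)
      have hle : zpowers r ≤ Subgroup.normalizer (zpowers w : Set G) := by
        rw [zpowers_le, mem_normalizer_iff]
        intro z
        constructor
        · rintro ⟨k, rfl⟩; exact ⟨k, by rw [(hc.zpow_right k).eq, mul_inv_cancel_right]⟩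
        · rintro ⟨k, hk⟩
          refine ⟨k, ?_⟩
          calc w ^ k = r⁻¹ * (w ^ k) * r := by rw [mul_assoc, ← (hc.zpow_right k).eq, inv_mul_cancel_left]
            _ = z := by rw [show w ^ k = r * z * r⁻¹ from hk]; group
      obtain ⟨Q, hQ⟩ := (hr2.to_sup_of_normal_right' hw2 hle).exists_le_sylow
      obtain ⟨c, hc'⟩ := MulAction.exists_smul_eq G Q P
      have hmem : ∀ x ∈ zpowers r ⊔ zpowers w, c * x * c⁻¹ ∈ (P : Subgroup G) := by
        intro x hx
        rw [← hc', Sylow.coe_subgroup_smul]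
        exact ⟨x, hQ hx, rfl⟩
      have e1 := hone _ (hmem r (mem_sup_left (mem_zpowers r))) (by rw [CfsgLib.Invol.orderOf_conj_eq, hr4])
      have e2 := hone _ (hmem w (mem_sup_right (mem_zpowers w)))
        (by rw [CfsgLib.Invol.orderOf_conj_eq, root_order hv hw])
      rw [conj_mul, hru] at e1
      rw [conj_mul, hw] at e2
      exact hvu (mul_left_cancel (mul_right_cancel (e2.trans e1.symm)))
    obtain ⟨a, b⟩ := (h.root_pair hu hru hv hw hvu'.symm hvu.symm).resolve_left hnc
    exact ⟨a, b, hnc⟩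
  obtain ⟨huw, hvy, hncy⟩ := hflip y hyP hy4
  have hroots : ∀ r ∈ (P : Subgroup G), orderOf r = 4 → Commute r y := by
    intro r hr hr4
    rcases h.root_conj hu hy (hcen r hr) with e | e
    · exact mul_inv_eq_iff_eq_mul.1 e
    · exfalso
      have hsq : (y * r) * (y * r) = u := by
        calc (y * r) * (y * r) = y * (r * y * r⁻¹) * (r * r) := by group
          _ = u := by rw [e, mul_inv_cancel, one_mul, hone r hr hr4]
      have hinv := (hflip (y * r) (mul_mem hyP hr) (root_order hu hsq)).2.1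
      rw [show v * (y * r) * v = v * y * v * (v * r * v) by
        simp only [mul_assoc]; rw [← mul_assoc v v, hvv, one_mul], hvy, (hflip r hr hr4).2.1,
        ← mul_inv_rev, inv_inj] at hinv
      rw [mul_inv_eq_iff_eq_mul] at e
      have hyy : y = y⁻¹ := mul_right_cancel (hinv.symm.trans e)
      exact root_ne_inv hu hy hyy
  set B := (P : Subgroup G) ⊓ centralizer ({y} : Set G) with hB
  have hBy : ∀ g ∈ B, Commute g y := fun g hg => mem_centralizer_singleton_iff.1 hg.2
  have hinvB : ∀ g ∈ B, v * g * v = g⁻¹ := by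
    intro g hg
    have hgy := hBy g hg
    by_cases h2 : g * g = 1
    · by_cases hg1 : g = 1
      · rw [hg1, mul_one, hvv, inv_one]
      have hsq : g * y * (g * y) = u := by
        rw [mul_assoc, ← mul_assoc y g, ← hgy.eq, mul_assoc g y y, ← mul_assoc g g, h2, one_mul, hy]
      have e := (hflip (g * y) (mul_mem hg.1 hyP) (root_order hu hsq)).2.1
      rw [show v * (g * y) * v = v * g * v * (v * y * v) by
        simp only [mul_assoc]; rw [← mul_assoc v v, hvv, one_mul], hvy, hgy.eq, mul_inv_rev] at e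
      have hg' : g⁻¹ = g := inv_eq_of_mul_eq_one_left h2
      rw [hg', show g * y⁻¹ = g * y⁻¹ from rfl] at e
      rw [hg']
      exact mul_right_cancel e
    · obtain ⟨r, t, n, -, -, -, ht, hrt, hr4, hrg, htg, hrP⟩ := exists_root_zpowers P.2 hg.1 h2
      have htu : t = u := hrt ▸ hone r hrP hr4
      obtain ⟨k, hk⟩ := h.conj_mem_zpowers ht htg (htu ▸ hvu') (mem_zpowers g)
      have hk' : g ^ k = v * g * v := by rw [show v * g * v = v * g * v⁻¹ by rw [hvi]]; exact hk
      have hzz : v * (g * (v * g * v)) * v = g * (v * g * v) := by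
        calc v * (g * (v * g * v)) * v = (v * g * v) * (v * v) * g * (v * v) := by
              rw [hvv, mul_one, mul_one]; simp only [mul_assoc]; rw [hvv, mul_one]
          _ = g ^ k * g := by rw [hvv, mul_one, mul_one, hk']
          _ = g * g ^ k := (Commute.refl g).zpow_left k |>.eq
          _ = g * (v * g * v) := by rw [hk']
      have hgv : g * v * (g * v) = g * (v * g * v) := by simp only [mul_assoc]
      by_cases hz1 : g * (v * g * v) = 1
      · exact (inv_eq_of_mul_eq_one_right hz1).symm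
      exfalso
      by_cases hz2 : g * (v * g * v) * (g * (v * g * v)) = 1
      · have ho : orderOf (g * v) = 4 := root_order (u := g * (v * g * v))
          (orderOf_eq_prime (by rw [pow_two, hz2]) hz1) hgv
        have hc := hroots _ (mul_mem hg.1 hvP) ho
        have hvy' : Commute v y := by
          have := hgy.inv_left.mul_left hc
          rwa [inv_mul_cancel_left] at this
        rw [hvy'.eq, mul_assoc, hvv, mul_one] at hvy
        exact root_ne_inv hu hy hvy
      · obtain ⟨r', t', n', -, hr', -, ht', hrt', hr4', -, -, hrP'⟩ := exists_root_zpowers P.2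
          (mul_mem hg.1 (mul_mem (mul_mem hvP hg.1) hvP)) hz2
        have e1 : v * r' * v = r' := by
          rw [hr', show v * (g * (v * g * v)) ^ 2 ^ n' * v = v * (g * (v * g * v)) ^ 2 ^ n' * v⁻¹ by rw [hvi],
            ← conj_pow, hvi, hzz]
        exact root_ne_inv ht' hrt' (e1.symm.trans (hflip r' hrP' hr4').2.1)
  have hvB : v ∉ B := fun hv' => by
    have hc := hBy v hv'
    rw [hc.eq, mul_assoc, hvv, mul_one] at hvy
    exact root_ne_inv hu hy hvy
  have hcomm : ∀ a ∈ B, ∀ b ∈ B, a * b = b * a := by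
    intro a ha b hb
    have e := hinvB (a * b) (mul_mem ha hb)
    rw [show v * (a * b) * v = v * a * v * (v * b * v) by
        simp only [mul_assoc]; rw [← mul_assoc v v, hvv, one_mul], hinvB a ha, hinvB b hb,
      ← mul_inv_rev, inv_inj] at e
    exact e.symm
  have hmulv : ∀ g ∈ (P : Subgroup G), g ∉ B → g * v ∈ B := by
    intro g hg hgB
    refine ⟨mul_mem hg hvP, mem_centralizer_singleton_iff.2 ?_⟩
    rcases h.root_conj hu hy (hcen g hg) with e | e
    · exact absurd ⟨hg, mem_centralizer_singleton_iff.2 (mul_inv_eq_iff_eq_mul.1 e)⟩ hgB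
    · have e2 : g * v * y * (g * v)⁻¹ = y := by
        calc g * v * y * (g * v)⁻¹ = g * (v * y * v⁻¹) * g⁻¹ := by group
          _ = y := by rw [hvi, hvy, ← conj_inv, e, inv_inv]
      exact mul_inv_eq_iff_eq_mul.1 e2
  refine ⟨B, v, ⟨inf_le_left, hvP, hvB, hcomm, fun g hg hgB => ?_, hmulv⟩,
    ⟨hyP, mem_centralizer_singleton_iff.2 rfl⟩, ?_⟩
  · have hb := hinvB _ (hmulv g hg hgB)
    have hgg : g = g⁻¹ := by
      rw [mul_inv_rev, hvi, mul_assoc, mul_assoc, hvv, mul_one] at hb
      exact mul_left_cancel hb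
    refine ⟨orderOf_eq_prime (by rw [pow_two]; nth_rw 2 [hgg]; exact mul_inv_cancel g)
      (fun e => hgB (e ▸ one_mem B)), fun b hb' => ?_⟩
    have hvb := hinvB b hb'
    calc g * b * g⁻¹ = (g * v) * (v * b * v) * (g * v)⁻¹ := by
          rw [mul_inv_rev, hvi]; simp only [mul_assoc]
          rw [← mul_assoc v v, hvv, one_mul, ← mul_assoc v v, hvv, one_mul]
      _ = b⁻¹ := by rw [hvb, hcomm _ (hmulv g hg hgB) _ (inv_mem hb'), mul_inv_cancel_right]
  · intro i hi hi2
    by_contra hne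
    have hiu : Commute i u := hcen i hi.1
    have hiy := hBy i hi
    have hiv : Commute i v := by
      have e := hinvB i hi
      rw [CfsgLib.Invol.invol_inv hi2] at e
      calc i * v = v * i * v * v := by rw [e]
        _ = v * i := by rw [mul_assoc (v * i), hvv, mul_one]
    have hii := CfsgLib.Invol.invol_mul_self hi2
    rcases h.root_invol hv hw hi2 hiv with e | e
    · exact hncy (h.root_commute_cent hi2 hiy.symm e.symm hu hy hv hw hvu'.symm hvu.symm)
    · have hiu2 : orderOf (i * u) = 2 := orderOf_eq_prime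
        (by rw [hiu.mul_pow, pow_two, pow_two, hii, CfsgLib.Invol.invol_mul_self hu, one_mul])
        (fun e' => hne (by rw [mul_eq_one_iff_eq_inv.1 e', CfsgLib.Invol.invol_inv hu]))
      have hyu : Commute y u := hcen y hyP
      have hwiu : Commute w (i * u) := by
        have e2 : (i * u) * w * (i * u)⁻¹ = w := by
          calc (i * u) * w * (i * u)⁻¹ = i * (u * w * u) * i := by
                rw [mul_inv_rev, CfsgLib.Invol.invol_inv hu, CfsgLib.Invol.invol_inv hi2]; group
            _ = (i * w * i)⁻¹ := by rw [huw]; rw [mul_inv_rev, mul_inv_rev, CfsgLib.Invol.invol_inv hi2, mul_assoc]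
            _ = w := by rw [e, inv_inv]
        exact (show Commute (i * u) w from mul_inv_eq_iff_eq_mul.1 e2).symm
      exact hncy (h.root_commute_cent hiu2 (hiy.symm.mul_right hyu) hwiu hu hy hv hw hvu'.symm hvu.symm)

/-- Two squares: commutative or generalized dihedral. -/
theorem shape_two (P : Sylow 2 G) (htwo : TwoSquares (P : Subgroup G)) :
    (∀ a ∈ (P : Subgroup G), ∀ b ∈ (P : Subgroup G), a * b = b * a) ∨
      ∃ (B : Subgroup G) (v : G), InvData (P : Subgroup G) B v ∧ TwoSquares B := by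
  have h := S.hyp
  haveI : Fact (Nat.Prime 2) := ⟨Nat.prime_two⟩
  obtain ⟨y₀, hy₀P, w₀, hw₀P, hy₀, hw₀, hne₀⟩ := htwo
  -- roots commute
  have hother : ∀ a : G, ∃ w ∈ (P : Subgroup G), orderOf w = 4 ∧ a ≠ w * w := fun a => by
    by_cases e : a = y₀ * y₀
    · exact ⟨w₀, hw₀P, hw₀, e ▸ hne₀⟩
    · exact ⟨y₀, hy₀P, hy₀, e⟩
  have hcomm : ∀ y ∈ (P : Subgroup G), ∀ y' ∈ (P : Subgroup G), orderOf y = 4 → orderOf y' = 4 →
      Commute y y' := by
    intro y hy y' hy' o o'
    by_cases e : y * y = y' * y'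
    · obtain ⟨w, hwP, hw4, hw⟩ := hother (y * y)
      exact h.roots_commute_of_two P.2 hy hy' hwP (orderOf_sq_of_four o) rfl e.symm
        (orderOf_sq_of_four hw4) rfl hw
    · exact h.root_commute_pgroup P.2 hy hy' (orderOf_sq_of_four o) rfl (orderOf_sq_of_four o') rfl
        (h.squares_commute P.2 hy hy' (orderOf_sq_of_four o) rfl (orderOf_sq_of_four o') rfl) e
  -- squares are central
  have hfix : ∀ g ∈ (P : Subgroup G), g * g ≠ 1 → ∀ y ∈ (P : Subgroup G), orderOf y = 4 →
      Commute g (y * y) := by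
    intro g hg h2 y hy hy4
    obtain ⟨r, t, n, hn, hr, -, ht, hrt, hr4, hrg, htg, hrP⟩ := exists_root_zpowers P.2 hg h2
    have hyr := hcomm y hy r hrP hy4 hr4
    have hyt : Commute y t := hrt ▸ hyr.mul_right hyr
    set k := g * y * g⁻¹ * y⁻¹ with hk
    clear_value k
    have hky : Commute y (g * y * g⁻¹) :=
      hcomm y hy _ (mul_mem (mul_mem hg hy) (inv_mem hg)) hy4 (by rw [CfsgLib.Invol.orderOf_conj_eq, hy4])
    have hkg : k ∈ zpowers g := by
      rw [show k = g * (y * g * y⁻¹)⁻¹ by rw [hk]; group]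
      exact mul_mem (mem_zpowers g) (inv_mem (h.conj_mem_zpowers ht htg hyt (mem_zpowers g)))
    have hkyc : Commute k y := by rw [hk]; exact (hky.symm).mul_left ((Commute.refl y).inv_left)
    have hk4 : k ^ 4 = 1 := by
      rw [hk, (hky.symm.inv_right).mul_pow, conj_pow, inv_pow, ← hy4, pow_orderOf_eq_one]; simp
    have hgk : Commute k g := commute_of_mem_zpowers hkg
    have e0 : g * (y * y) * g⁻¹ = k * k * (y * y) := by
      rw [← conj_mul, show g * y * g⁻¹ = k * y by rw [hk]; group]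
      simp only [mul_assoc]
      rw [← mul_assoc y k, ← hkyc.eq, mul_assoc]
    suffices hk2 : k * k = 1 from mul_inv_eq_iff_eq_mul.1 (by rw [e0, hk2, one_mul])
    by_contra hk2
    have hkk : k * k = t := by
      have := sq_one_zpowers (n := n + 1) hn (mul_mem hkg hkg)
        (by rw [← pow_two, ← pow_two, ← pow_mul]; exact hk4)
      rcases this with e | e
      · exact absurd e hk2
      · rw [e]; exact (by rw [← hrt, hr, ← pow_add, pow_succ, mul_two] : g ^ 2 ^ (n + 1) = t)
    have hyginv : y * g⁻¹ * y⁻¹ = g⁻¹ * k := by rw [hk]; group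
    rcases n with _ | m
    · have hgy : Commute g y := hcomm g hg y hy (by rw [hn]; rfl) hy4
      apply hk2
      rw [hk, hgy.eq, mul_inv_cancel_right, mul_inv_cancel, one_mul]
    set hh := g ^ 2 ^ m with hhdef
    have hh8 : hh * hh = r := by rw [hhdef, hr, ← pow_add, pow_succ, mul_two]
    have hyh : y * hh * y⁻¹ = hh * (k ^ 2 ^ m)⁻¹ := by
      have e1 : y * hh⁻¹ * y⁻¹ = hh⁻¹ * k ^ 2 ^ m := by
        rw [hhdef, ← inv_pow, ← conj_pow, hyginv, (hgk.symm.inv_left).mul_pow]
      rw [← inv_inj, conj_inv, e1, mul_inv_rev, inv_inv, (hgk.pow_pow (2 ^ m) (2 ^ m)).inv_right.eq]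
    obtain ⟨e, he⟩ : ∃ e : ℕ, (k ^ 2 ^ m)⁻¹ = t ^ e ∨ m = 0 := by
      rcases m with _ | m
      · exact ⟨0, Or.inr rfl⟩
      · refine ⟨2 ^ m, Or.inl ?_⟩
        rw [pow_succ', pow_mul, pow_two, hkk, ← inv_pow, CfsgLib.Invol.invol_inv ht]
    rcases he with he | he
    swap
    · -- order eight
      subst he
      rw [pow_zero, pow_one] at hhdef hyh
      obtain ⟨j, hj⟩ := (mem_powers_iff_mem_zpowers.2 (inv_mem hkg) : k⁻¹ ∈ Submonoid.powers g)
      have hj' : g ^ j = k⁻¹ := hj
      rw [hhdef, ← hj', ← pow_succ'] at hyh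
      have h8 : orderOf g = 8 := by rw [hn]; rfl
      obtain ⟨i, hi⟩ : Even j := by
        rw [even_iff_two_dvd]
        have h1 : 8 ∣ j * 4 := by
          rw [← h8]; apply orderOf_dvd_of_pow_eq_one
          rw [pow_mul, hj', inv_pow, hk4, inv_one]
        omega
      have h2' : y * y * g * (y * y)⁻¹ = g := by
        calc y * y * g * (y * y)⁻¹ = y * (y * g * y⁻¹) * y⁻¹ := by group
          _ = g ^ ((j + 1) * (j + 1)) := by rw [hyh, ← conj_pow, hyh, ← pow_mul]
          _ = g ^ 1 := by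
            rw [← pow_mod_orderOf g ((j + 1) * (j + 1)), h8]
            congr 1
            rw [Nat.mul_mod]
            have : (j + 1) % 8 = 1 ∨ (j + 1) % 8 = 3 ∨ (j + 1) % 8 = 5 ∨ (j + 1) % 8 = 7 := by omega
            rcases this with e | e | e | e <;> rw [e]
          _ = g := pow_one g
      have hc : Commute g (y * y) := (show Commute (y * y) g from mul_inv_eq_iff_eq_mul.1 h2').symm
      rw [hc.eq, mul_inv_cancel_right] at e0
      exact hk2 (mul_eq_right.1 e0.symm)
    rw [he] at hyh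
    have htk : ∀ a : ℕ, Commute (t ^ a) hh := fun a =>
      ((commute_of_mem_zpowers htg).pow_pow a (2 ^ m))
    have hty : ∀ a : ℕ, Commute (t ^ a) y := fun a => hyt.symm.pow_left a
    have htr : t * t = 1 := CfsgLib.Invol.invol_mul_self ht
    have huh : Commute (y * y) hh := by
      have e' : y * y * hh * (y * y)⁻¹ = hh := by
        calc y * y * hh * (y * y)⁻¹ = y * (y * hh * y⁻¹) * y⁻¹ := by group
          _ = y * hh * y⁻¹ * t ^ e := by rw [hyh, ← conj_mul, (hty e).symm.eq, mul_inv_cancel_right, hyh]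
          _ = hh := by rw [hyh, mul_assoc, ← pow_add, ← two_mul, pow_mul, pow_two, htr, one_pow, mul_one]
      exact mul_inv_eq_iff_eq_mul.1 e'
    set w := y * hh with hw
    have hw2 : w * w = t ^ e * (y * y) * r := by
      calc w * w = (y * hh * y⁻¹) * (y * y) * hh := by rw [hw]; group
        _ = t ^ e * (y * y) * r := by
          rw [hyh, ← (htk e).eq, mul_assoc (t ^ e), ← huh.eq, mul_assoc (t ^ e), mul_assoc (y * y), hh8,
            ← mul_assoc]
    have htyr : Commute (t ^ e * (y * y)) r := by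
      refine Commute.mul_left ?_ (hyr.mul_left hyr)
      rw [← hrt]; exact (((Commute.refl r).mul_left (Commute.refl r))).pow_left e
    have hw4 : w ^ 4 = t := by
      rw [show (4 : ℕ) = 2 * 2 by rfl, pow_mul, pow_two w, hw2, htyr.mul_pow, ((hty e).mul_right (hty e)).mul_pow,
        ← pow_mul, mul_comm, pow_mul, pow_two, pow_two, htr, one_pow, one_mul, ← pow_two]
      rw [show (y * y) ^ 2 = y ^ orderOf y by rw [hy4, pow_two, ← pow_two y, ← pow_add], pow_orderOf_eq_one, one_mul,
        pow_two, hrt]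
    have hw8 : orderOf w = 8 := by
      rw [show (8 : ℕ) = 2 ^ (2 + 1) by rfl]
      refine orderOf_eq_prime_pow ?_ ?_
      · rw [show 2 ^ 2 = 4 by rfl, hw4]; exact CfsgLib.Invol.invol_ne_one ht
      · rw [show 2 ^ (2 + 1) = 4 * 2 by rfl, pow_mul, hw4, pow_two, htr]
    have hgw : g * w * g⁻¹ = k * w := by
      rw [hw, ← conj_mul, ((Commute.refl g).pow_right _).eq, mul_inv_cancel_right, hk]
      simp only [mul_assoc, inv_mul_cancel_left]
      rw [hhdef]
    have hgt : Commute g t := (commute_of_mem_zpowers htg).symm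
    obtain ⟨a, ha⟩ := (mem_powers_iff_mem_zpowers.2
      (h.conj_mem_zpowers ht (hw4 ▸ pow_mem (mem_zpowers w) 4) hgt (mem_zpowers w)) :
        g * w * g⁻¹ ∈ Submonoid.powers w)
    have ha' : w ^ (a + 7) = k := by
      have e1 : w ^ a = k * w := ha.trans hgw
      rw [pow_add, e1, mul_assoc, ← pow_succ', show (7 : ℕ) + 1 = orderOf w by rw [hw8], pow_orderOf_eq_one,
        mul_one]
    obtain ⟨i, hi⟩ : Even (a + 7) := by
      rw [even_iff_two_dvd]
      have h1 : 8 ∣ (a + 7) * 4 := by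
        rw [← hw8]; apply orderOf_dvd_of_pow_eq_one; rw [pow_mul, ha', hk4]
      omega
    rw [hi, ← two_mul, pow_mul, pow_two w, hw2] at ha'
    -- `y * y` lies in `<g>`
    have hyg : y * y ∈ zpowers g := by
      rcases Nat.even_or_odd i with ⟨j, hj⟩ | ⟨j, hj⟩
      · exfalso; apply hk2
        rw [← ha', hj, ← hw2, ← pow_two w, ← pow_mul, ← pow_add,
          show 2 * (j + j) + 2 * (j + j) = 4 * (2 * j) by ring, pow_mul, hw4, pow_mul, pow_two, htr, one_pow]
      · have hq : (t ^ e * (y * y) * r) ^ 2 = t := by rw [← hw2, ← pow_two, ← pow_mul]; exact hw4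
        rw [hj, pow_succ, pow_mul, hq] at ha'
        have hT : ∀ a : ℕ, t ^ a ∈ zpowers g := fun a => pow_mem htg a
        have e2 : y * y = (t ^ j * t ^ e)⁻¹ * k * r⁻¹ := by rw [← ha']; group
        rw [e2]
        exact mul_mem (mul_mem (inv_mem (mul_mem (hT _) (hT _))) hkg) (inv_mem hrg)
    have e3 : Commute g (y * y) := (commute_of_mem_zpowers hyg).symm
    rw [e3.eq, mul_inv_cancel_right] at e0
    exact hk2 (mul_eq_right.1 e0.symm)
  have hcen : ∀ g ∈ (P : Subgroup G), ∀ y ∈ (P : Subgroup G), orderOf y = 4 → Commute g (y * y) := by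
    intro g hg y hy hy4
    by_cases h2 : g * g = 1
    · by_cases h3 : g * y * (g * y) = 1
      · have e : g * y = (g * y)⁻¹ := (inv_eq_of_mul_eq_one_left h3).symm
        have hgi : g⁻¹ = g := inv_eq_of_mul_eq_one_left h2
        rw [mul_inv_rev, hgi] at e
        have e2 : g * y * g⁻¹ = y⁻¹ := by rw [e]; group
        have e3 : g * (y * y) * g⁻¹ = y * y := by
          rw [← conj_mul, e2, ← mul_inv_rev, CfsgLib.Invol.invol_inv (orderOf_sq_of_four hy4)]
        exact mul_inv_eq_iff_eq_mul.1 e3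
      · have := (hfix _ (mul_mem hg hy) h3 y hy hy4).mul_left
          ((Commute.refl y).mul_right (Commute.refl y)).inv_left
        rwa [mul_inv_cancel_right] at this
    · exact hfix g hg h2 y hy hy4
  -- elements which are not involutions centralize all roots
  have hbig : ∀ g ∈ (P : Subgroup G), g * g ≠ 1 → ∀ y ∈ (P : Subgroup G), orderOf y = 4 → Commute g y := by
    intro g hg h2
    obtain ⟨r, t, n, hn, hr, htn, ht, hrt, hr4, hrg, htg, hrP⟩ := exists_root_zpowers P.2 hg h2
    have hstep : ∀ y ∈ (P : Subgroup G), orderOf y = 4 → y * y ≠ t → Commute g y := by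
      intro y hy hy4 hne
      have hyr := hcomm y hy r hrP hy4 hr4
      have hyt : Commute y t := hrt ▸ hyr.mul_right hyr
      set c := y * g * y⁻¹ * g⁻¹ with hc
      obtain ⟨hcg, hcy⟩ := commutator_mem_zpowers (h.conj_mem_zpowers ht htg hyt (mem_zpowers g))
        (h.conj_mem_zpowers (orderOf_sq_of_four hy4) (root_mem rfl) (hcen g hg y hy hy4) (mem_zpowers y))
      have hc1 : c = 1 := by
        by_contra hc1
        obtain ⟨a, ha⟩ := (mem_powers_iff_mem_zpowers.2 hcy : c ∈ Submonoid.powers y)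
        have ha' : y ^ (a % 4) = c := by rw [← hy4, pow_mod_orderOf]; exact ha
        have hyy : y * y ∈ zpowers g := by
          have hmod : a % 4 = 0 ∨ a % 4 = 1 ∨ a % 4 = 2 ∨ a % 4 = 3 := by omega
          rcases hmod with e | e | e | e <;> rw [e] at ha'
          · exact absurd (ha'.symm.trans (pow_zero y)) hc1
          · rw [pow_one] at ha'; rw [ha']; exact mul_mem hcg hcg
          · rw [← pow_two, ha']; exact hcg
          · have : y * y = c * c := by
              rw [← ha', ← pow_add, ← pow_two, ← pow_mod_orderOf y (3 + 3), hy4]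
            rw [this]; exact mul_mem hcg hcg
        rcases sq_one_zpowers (n := n + 1) hn hyy
            (CfsgLib.Invol.invol_mul_self (orderOf_sq_of_four hy4)) with e | e
        · exact CfsgLib.Invol.invol_ne_one (orderOf_sq_of_four hy4) e
        · exact hne (e.trans htn.symm)
      rw [hc, mul_inv_eq_one, mul_inv_eq_iff_eq_mul] at hc1
      exact (show Commute y g from hc1).symm
    intro y hy hy4
    by_cases e : y * y = t
    · obtain ⟨y', hy'P, hy'4, hne⟩ := hother t
      have hyy' := hcomm y hy y' hy'P hy4 hy'4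
      have hsq : y * y' * (y * y') = t * (y' * y') := by
        rw [← e, mul_assoc, ← mul_assoc y' y, ← hyy'.eq, mul_assoc, ← mul_assoc]
      have ho : orderOf (y * y') = 4 := by
        refine root_order (u := t * (y' * y')) (orderOf_eq_prime ?_ ?_) hsq
        · have hc : Commute t (y' * y') := (hcen _ (e ▸ mul_mem hy hy) y' hy'P hy'4)
          rw [hc.mul_pow, pow_two, pow_two, CfsgLib.Invol.invol_mul_self ht,
            CfsgLib.Invol.invol_mul_self (orderOf_sq_of_four hy'4), one_mul]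
        · intro e'
          exact hne (by rw [mul_eq_one_iff_eq_inv.1 e',
            CfsgLib.Invol.invol_inv (orderOf_sq_of_four hy'4)])
      have h1 := hstep _ (mul_mem hy hy'P) ho (by
        rw [hsq]
        intro e'
        exact CfsgLib.Invol.invol_ne_one (orderOf_sq_of_four hy'4) (mul_eq_left.1 e'))
      have h2 := hstep y' hy'P hy'4 hne.symm
      have h3 := h1.mul_right h2.inv_right
      rwa [mul_inv_cancel_right] at h3
    · exact hstep y hy hy4 e
  set B := (P : Subgroup G) ⊓ centralizer {y : G | y ∈ (P : Subgroup G) ∧ orderOf y = 4} with hB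
  have hBmem : ∀ g ∈ (P : Subgroup G), g ∈ B ↔ ∀ y ∈ (P : Subgroup G), orderOf y = 4 → Commute g y :=
    fun g hg => ⟨fun hgB y hy hy4 => ((mem_centralizer_iff.1 hgB.2) y ⟨hy, hy4⟩).symm,
      fun H => ⟨hg, mem_centralizer_iff.2 fun y hy => (H y hy.1 hy.2).eq.symm⟩⟩
  have hout : ∀ g ∈ (P : Subgroup G), g ∉ B → g * g = 1 := fun g hg hgB => by
    by_contra h2
    exact hgB ((hBmem g hg).2 (hbig g hg h2))
  by_cases hPB : ∀ g ∈ (P : Subgroup G), g ∈ B
  · left
    have hc : ∀ g ∈ (P : Subgroup G), ∀ y ∈ (P : Subgroup G), orderOf y = 4 → Commute g y :=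
      fun g hg => (hBmem g hg).1 (hPB g hg)
    have hinvol : ∀ i ∈ (P : Subgroup G), i * i = 1 → ∀ g ∈ (P : Subgroup G), Commute i g := by
      intro i hi hii g hg
      by_cases hi1 : i = 1
      · rw [hi1]; exact Commute.one_left g
      have hiy := hc i hi y₀ hy₀P hy₀
      have ho : orderOf (i * y₀) = 4 := root_order (orderOf_sq_of_four hy₀) (by
        rw [mul_assoc, ← mul_assoc y₀ i, ← hiy.eq, mul_assoc, ← mul_assoc i i, hii, one_mul])
      have h1 := (hc g hg _ (mul_mem hi hy₀P) ho).mul_right (hc g hg y₀ hy₀P hy₀).inv_right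
      rw [mul_inv_cancel_right] at h1
      exact h1.symm
    exact fun a ha b hb => (commute_of_small h P.2
      (fun x hx hx4 g hg => (hc g hg x hx hx4).symm) hinvol a b ha hb).eq
  · right
    push Not at hPB
    obtain ⟨v, hvP, hvB⟩ := hPB
    have hinv : ∀ g ∈ (P : Subgroup G), g ∉ B → ∀ b ∈ B, g * b * g⁻¹ = b⁻¹ := by
      intro g hg hgB b hb
      have hgb : g * b ∉ B := fun hh => hgB (by simpa using mul_mem hh (inv_mem hb))
      have e1 := hout _ (mul_mem hg hb.1) hgb
      have hgi : g⁻¹ = g := inv_eq_of_mul_eq_one_left (hout g hg hgB)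
      rw [hgi]
      exact eq_inv_of_mul_eq_one_left (by rw [← e1]; group)
    have hne1 : ∀ g, g ∉ B → g ≠ 1 := fun g hgB e => hgB (e ▸ one_mem B)
    have hroot : ∀ y ∈ (P : Subgroup G), orderOf y = 4 → y ∈ B := fun y hy hy4 =>
      (hBmem y hy).2 fun y' hy' hy'4 => hcomm y hy y' hy' hy4 hy'4
    refine ⟨B, v, ⟨inf_le_left, hvP, hvB, ?_, fun g hg hgB =>
      ⟨orderOf_eq_prime (by rw [pow_two, hout g hg hgB]) (hne1 g hgB), hinv g hg hgB⟩, fun g hg hgB => ?_⟩,
      y₀, hroot y₀ hy₀P hy₀, w₀, hroot w₀ hw₀P hw₀, hy₀, hw₀, hne₀⟩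
    · intro a ha b hb
      have e := hinv v hvP hvB (a * b) (mul_mem ha hb)
      rw [← conj_mul, hinv v hvP hvB a ha, hinv v hvP hvB b hb, ← mul_inv_rev, inv_inj] at e
      exact e.symm
    · refine (hBmem _ (mul_mem hg hvP)).2 fun y hy hy4 => mul_inv_eq_iff_eq_mul.1 ?_
      have hyB := hroot y hy hy4
      calc g * v * y * (g * v)⁻¹ = g * (v * y * v⁻¹) * g⁻¹ := by group
        _ = y := by rw [hinv v hvP hvB y hyB, hinv g hg hgB _ (inv_mem hyB), inv_inv]

/-- The shape of a Sylow 2-subgroup. -/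
theorem sylow_shape (P : Sylow 2 G) :
    (∀ a ∈ (P : Subgroup G), ∀ b ∈ (P : Subgroup G), a * b = b * a) ∨
    (∃ (B : Subgroup G) (v y : G), InvData (P : Subgroup G) B v ∧ y ∈ B ∧ orderOf y = 4 ∧
      ∀ i ∈ B, orderOf i = 2 → i = y * y) ∨
    ∃ (B : Subgroup G) (v : G), InvData (P : Subgroup G) B v ∧ TwoSquares B := by
  by_cases h2 : ∀ g ∈ (P : Subgroup G), g * g = 1
  · refine Or.inl fun a ha b hb => ?_
    have e := h2 _ (mul_mem ha hb)
    calc a * b = (a * b)⁻¹ := (inv_eq_of_mul_eq_one_left e).symm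
      _ = b * a := by
        rw [mul_inv_rev, inv_eq_of_mul_eq_one_left (h2 a ha), inv_eq_of_mul_eq_one_left (h2 b hb)]
  push Not at h2
  obtain ⟨g, hg, hg2⟩ := h2
  obtain ⟨r, t, n, -, -, -, -, -, hr4, -, -, hrP⟩ := exists_root_zpowers P.2 hg hg2
  by_cases hone : ∀ w ∈ (P : Subgroup G), orderOf w = 4 → w * w = r * r
  · obtain ⟨B, v, hd, hy, hu⟩ := S.shape_one P hrP hr4 hone
    exact Or.inr (Or.inl ⟨B, v, r, hd, hy, hr4, hu⟩)
  · push Not at hone
    obtain ⟨w, hwP, hw4, hne⟩ := hone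
    rcases S.shape_two P ⟨w, hwP, r, hrP, hw4, hr4, hne⟩ with hc | hd
    · exact Or.inl hc
    · exact Or.inr (Or.inr hd)

end Std

end CfsgLib.Recog.NormCyclic
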