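import Cfsg.Agent.Lib.Recog.NormCyclic.Local
import Cfsg.Agent.Lib.Recog.NormCyclic.TwoSylow
import Cfsg.Agent.Lib.Recog.NormCyclic.Dihedral
import Cfsg.Agent.Lib.Invol.AIMain
import Cfsg.Agent.Lib.Invol.HigmanTwo
import Cfsg.Agent.Lib.Invol.HomocyclicNormal

/-!
Commutative Sylow 2-subgroups: they are elementary and the group is `PSL₂(q)`.
-/

set_option autoImplicit false
set_option linter.unusedSectionVars false

namespace CfsgLib.Recog.NormCyclic

open Subgroup

universe u

theorem sq_eq_scalar {F : Type*} [CommRing F] (A : Matrix (Fin 2) (Fin 2) F) (h : A.det = 1) :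
    A * A = (A 0 0 + A 1 1) • A - 1 := by
  rw [Matrix.det_fin_two] at h
  ext i j
  fin_cases i <;> fin_cases j <;>
    simp [Matrix.mul_apply, Fin.sum_univ_two, Matrix.sub_apply, Matrix.smul_apply] <;>
    first
    | ring1
    | linear_combination -h
    | linear_combination h

/-- There is no element of order four in `PSL₂` in characteristic two. -/
theorem psl_sq_eq_one {F : Type*} [Field F] (h2 : (2 : F) = 0)
    (g : Matrix.ProjectiveSpecialLinearGroup (Fin 2) F) (h4 : g ^ 4 = 1) : g ^ 2 = 1 := by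
  obtain ⟨A, rfl⟩ := QuotientGroup.mk_surjective g
  rw [← QuotientGroup.mk_pow, QuotientGroup.eq_one_iff] at h4 ⊢
  have hsq : ∀ r : F, r * r = 1 → r = 1 := fun r hr => by
    have e : (r - 1) * (r - 1) = 0 := by linear_combination hr + (1 - r) * h2
    rcases mul_eq_zero.1 e with e' | e' <;> linear_combination e'
  obtain ⟨c, hc, hcA⟩ := Matrix.SpecialLinearGroup.mem_center_iff.1 h4
  have hc1 : c = 1 := by
    simp only [Fintype.card_fin] at hc
    exact hsq c (by rw [← hc, pow_two])
  have hA4 : A.1 * A.1 * (A.1 * A.1) = 1 := by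
    have e : ((A ^ 4 : Matrix.SpecialLinearGroup (Fin 2) F) : Matrix (Fin 2) (Fin 2) F) = A.1 ^ 4 := by simp
    rw [← hcA, hc1, map_one] at e
    rw [← pow_two, ← pow_two, ← pow_mul]
    exact e.symm
  set τ := A.1 0 0 + A.1 1 1
  have hA2 := sq_eq_scalar A.1 A.2
  have hdet2 : (A.1 * A.1).det = 1 := by rw [Matrix.det_mul, A.2, one_mul]
  have hM := sq_eq_scalar (A.1 * A.1) hdet2
  rw [hA4] at hM
  set σ := (A.1 * A.1) 0 0 + (A.1 * A.1) 1 1 with hσ
  have hz : σ • (A.1 * A.1) = 0 := by
    have e : σ • (A.1 * A.1) = 1 + 1 := by nth_rw 1 [hM]; rw [sub_add_cancel]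
    rw [e, ← two_smul F (1 : Matrix (Fin 2) (Fin 2) F), h2, zero_smul]
  have hσ0 : σ = 0 := by
    have e : (σ • (A.1 * A.1)).det = 0 := by rw [hz, Matrix.det_zero]
    rw [Matrix.det_smul, hdet2, mul_one] at e
    exact eq_zero_of_pow_eq_zero e
  have hτ : τ = 0 := by
    have e : σ = τ * τ - 2 := by
      rw [hσ, hA2]
      simp only [Matrix.sub_apply, Matrix.smul_apply, smul_eq_mul, Matrix.one_apply_eq]
      ring
    rw [hσ0, h2, sub_zero] at e
    rcases mul_eq_zero.1 e.symm with e' | e' <;> exact e'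
  have hone : A ^ 2 = 1 := by
    apply Subtype.ext
    rw [pow_two, Matrix.SpecialLinearGroup.coe_mul, Matrix.SpecialLinearGroup.coe_one, hA2]
    change (τ • A.1 - 1) = 1
    rw [hτ, zero_smul, zero_sub, neg_eq_iff_add_eq_zero, ← two_smul F (1 : Matrix (Fin 2) (Fin 2) F), h2,
      zero_smul]
  rw [hone]
  exact one_mem _

variable {G : Type u} [Group G] [Finite G]

/-- An involution fixed by the normalizer of a commutative Sylow 2-subgroup containing it does not exist. -/
theorem Std.not_fixed (S : Std G) (P : Sylow 2 G)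
    (hab : ∀ a ∈ (P : Subgroup G), ∀ b ∈ (P : Subgroup G), a * b = b * a) {j : G}
    (hjP : j ∈ (P : Subgroup G)) (hj : orderOf j = 2)
    (hfix : ∀ n ∈ Subgroup.normalizer ((P : Subgroup G) : Set G), n * j * n⁻¹ = j) : False := by
  haveI : Fact (Nat.Prime 2) := ⟨Nat.prime_two⟩
  haveI : IsMulCommutative (P : Subgroup G) := ⟨⟨fun a b => Subtype.ext (hab a a.2 b b.2)⟩⟩
  obtain ⟨g, hg, hgne⟩ := S.exists_conj_commute hj
  refine hgne ?_
  set C := centralizer ({j} : Set G)
  have hPC : (P : Subgroup G) ≤ C := fun p hp => mem_centralizer_singleton_iff.2 (hab p hp j hjP)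
  have ho : orderOf (g * j * g⁻¹) = 2 := by rw [CfsgLib.Invol.orderOf_conj_eq, hj]
  obtain ⟨c, hc⟩ := invol_conj_into (P.subtype hPC)
    (x := (⟨g * j * g⁻¹, mem_centralizer_singleton_iff.2 hg.symm.eq⟩ : C)) (by rw [Subgroup.orderOf_mk]; exact ho)
  have hc' : (c : G) * (g * j * g⁻¹) * (c : G)⁻¹ ∈ (P : Subgroup G) := hc
  have hmem : ((c : G) * g)⁻¹⁻¹ * j * ((c : G) * g)⁻¹ ∈ (P : Subgroup G) := by
    rw [inv_inv, mul_inv_rev]; simpa only [mul_assoc] using hc'
  obtain ⟨n, hn, hne⟩ := P.conj_eq_normalizer_conj_of_mem j ((c : G) * g)⁻¹ hjP hmem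
  have h1 := hfix n⁻¹ (inv_mem hn)
  rw [inv_inv] at h1
  rw [h1, inv_inv, mul_inv_rev] at hne
  have hcj : (c : G) * j = j * c := mem_centralizer_singleton_iff.1 c.2
  calc g * j * g⁻¹ = (c : G)⁻¹ * ((c : G) * g * j * (g⁻¹ * (c : G)⁻¹)) * c := by group
    _ = (c : G)⁻¹ * (j * c) := by rw [hne, mul_assoc]
    _ = j := by rw [← hcj, inv_mul_cancel_left]

/-- The centralizer of an involution is recorded by its odd elements. -/
theorem Std.cent_same (S : Std G) (P : Sylow 2 G)
    (hab : ∀ a ∈ (P : Subgroup G), ∀ b ∈ (P : Subgroup G), a * b = b * a) {i j : G}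
    (hiP : i ∈ (P : Subgroup G)) (hjP : j ∈ (P : Subgroup G)) (hi : orderOf i = 2) (hj : orderOf j = 2)
    (hA : ∀ x : G, Odd (orderOf x) → (Commute x i ↔ Commute x j)) :
    centralizer ({i} : Set G) = centralizer ({j} : Set G) := by
  have key : ∀ {i j : G}, i ∈ (P : Subgroup G) → j ∈ (P : Subgroup G) → orderOf i = 2 →
      (∀ x : G, Odd (orderOf x) → Commute x i → Commute x j) →
      centralizer ({i} : Set G) ≤ centralizer ({j} : Set G) := by
    intro i j hiP hjP hi hA g hg
    obtain ⟨a, hat, hao, p, hp, rfl⟩ := cent_decomp S.hyp hi P (fun p hp => hab p hp i hiP)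
      (mem_centralizer_singleton_iff.1 hg)
    exact mem_centralizer_singleton_iff.2 ((hA a hao hat).mul_left (hab p hp j hjP)).eq
  exact le_antisymm (key hiP hjP hi fun x hx => (hA x hx).1) (key hjP hiP hj fun x hx => (hA x hx).2)

/-- All involutions of `P` with the same centralizer. -/
theorem Std.psl_of_same (S : Std G) (P : Sylow 2 G)
    (hab : ∀ a ∈ (P : Subgroup G), ∀ b ∈ (P : Subgroup G), a * b = b * a)
    (hsame : ∀ i ∈ (P : Subgroup G), ∀ j ∈ (P : Subgroup G), orderOf i = 2 → orderOf j = 2 →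
      centralizer ({i} : Set G) = centralizer ({j} : Set G)) :
    (∀ s ∈ (P : Subgroup G), s * s = 1) ∧ ∃ (F : Type) (_ : Field F) (_ : Fintype F), 3 < Fintype.card F ∧
      Nonempty (G ≃* Matrix.ProjectiveSpecialLinearGroup (Fin 2) F) := by
  haveI : Fact (Nat.Prime 2) := ⟨Nat.prime_two⟩
  have hodd : ∀ t ∈ (P : Subgroup G), orderOf t = 2 → ∀ p ∈ (P : Subgroup G), ∀ x : G,
      Odd (orderOf x) → Commute x t → Commute x p := by
    intro t ht ht2 p hp x hx hxt
    by_cases hpp : p * p = 1
    · by_cases hp1 : p = 1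
      · rw [hp1]; exact Commute.one_right x
      · have e := hsame t ht p hp ht2 (CfsgLib.Invol.invol_of_mul_self hpp hp1)
        have : x ∈ centralizer ({t} : Set G) := mem_centralizer_singleton_iff.2 hxt.eq
        rw [e] at this
        exact mem_centralizer_singleton_iff.1 this
    · obtain ⟨r, t', n, hn, -, -, ht', -, -, -, htg, -⟩ := exists_root_zpowers P.2 hp hpp
      have e := hsame t ht t' ((zpowers_le.2 hp) htg) ht2 ht'
      have : x ∈ centralizer ({t} : Set G) := mem_centralizer_singleton_iff.2 hxt.eq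
      rw [e] at this
      exact S.hyp.commute_odd ht' htg ⟨_, hn⟩ hx (mem_centralizer_singleton_iff.1 this)
  have hcomm : ∀ t ∈ (P : Subgroup G), orderOf t = 2 → ∀ a b : G, Commute a t → Commute b t → Commute a b := by
    intro t ht ht2 a b ha hb
    obtain ⟨x, hxt, hxo, p, hp, rfl⟩ := cent_decomp S.hyp ht2 P (fun p hp => hab p hp t ht) ha
    obtain ⟨z, hzt, hzo, q, hq, rfl⟩ := cent_decomp S.hyp ht2 P (fun p hp => hab p hp t ht) hb
    exact Commute.mul_left
      ((S.hyp.odd_commute ht2 hxo hzo hxt hzt).mul_right (hodd t ht ht2 q hq x hxo hxt))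
      ((hodd t ht ht2 p hp z hzo hzt).symm.mul_right (hab p hp q hq))
  have hA : ∀ t a b : G, orderOf t = 2 → Commute a t → Commute b t → Commute a b := by
    intro t a b ht ha hb
    obtain ⟨g, hg⟩ := invol_conj_into P ht
    have h1 := hcomm _ hg (by rw [CfsgLib.Invol.orderOf_conj_eq, ht]) (g * a * g⁻¹) (g * b * g⁻¹)
      (ha.conj g) (hb.conj g)
    have h2 := h1.conj g⁻¹
    simpa [mul_assoc] using h2
  have hnn : ¬ (P : Subgroup G).Normal := fun hn => S.notSolvable (by
    haveI := hn
    haveI : Group.IsNilpotent (P : Subgroup G) := P.isPGroup'.isNilpotent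
    have : Group.IsSolvable (G ⧸ (P : Subgroup G)) := CfsgLib.FT.odd_order_solvable (by
      rw [← Subgroup.index_eq_card]
      exact Nat.not_even_iff_odd.1 fun he => P.not_dvd_index (even_iff_two_dvd.1 he))
    exact solvable_of_ker_le_range (P : Subgroup G).subtype (QuotientGroup.mk' (P : Subgroup G))
      (by rw [QuotientGroup.ker_mk', range_subtype]))
  have hev : Even (Nat.card (P : Subgroup G)) := by
    obtain ⟨n, hn⟩ := IsPGroup.iff_card.1 P.2
    rw [hn, Nat.even_pow]
    refine ⟨even_two, fun e => hnn ?_⟩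
    rw [e, pow_zero] at hn
    rw [eq_bot_of_card_eq _ hn]
    infer_instance
  have hnc : ¬ IsCyclic (P : Subgroup G) := by
    intro hc
    obtain ⟨i, hiP, hi⟩ := CfsgLib.Invol.exists_invol_mem hev
    obtain ⟨⟨g, hgP⟩, hgen⟩ := hc.exists_generator
    obtain ⟨n, hn⟩ := IsPGroup.iff_orderOf.1 P.2 ⟨g, hgP⟩
    rw [Subgroup.orderOf_mk] at hn
    have hz : ∀ x ∈ (P : Subgroup G), x ∈ zpowers g := fun x hx => by
      obtain ⟨k, hk⟩ := hgen ⟨x, hx⟩
      exact ⟨k, congrArg Subtype.val hk⟩
    obtain ⟨m, rfl⟩ : ∃ m, n = m + 1 := ⟨n - 1, by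
      rcases n with _ | n
      · exfalso
        rw [pow_zero, orderOf_eq_one_iff] at hn
        have := hz i hiP
        rw [hn, zpowers_one_eq_bot, mem_bot] at this
        exact CfsgLib.Invol.invol_ne_one hi this
      · omega⟩
    refine S.not_fixed P hab hiP hi fun k hk => ?_
    have hkP : k * i * k⁻¹ ∈ (P : Subgroup G) := (mem_normalizer_iff.1 hk i).1 hiP
    have e1 := (sq_one_zpowers hn (hz _ hkP) (by rw [conj_mul, CfsgLib.Invol.invol_mul_self hi]; group)).resolve_left
      (fun e => CfsgLib.Invol.invol_ne_one hi (conj_eq_one_iff.1 e))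
    have e2 := (sq_one_zpowers hn (hz _ hiP) (CfsgLib.Invol.invol_mul_self hi)).resolve_left
      (CfsgLib.Invol.invol_ne_one hi)
    rw [e1, ← e2]
  obtain ⟨A, hAI⟩ := CfsgLib.Invol.exists_aiHyp hA P hnc hnn
  obtain ⟨F, iF, iFF, h4, h2, π, hπ, hker, hcen⟩ := hAI.exists_psl
  have hinj : Function.Injective π := by
    rw [← MonoidHom.ker_eq_bot_iff, hker, ← le_bot_iff, ← S.center]
    exact hcen
  let e : G ≃* Matrix.ProjectiveSpecialLinearGroup (Fin 2) F := MulEquiv.ofBijective π ⟨hinj, hπ⟩
  refine ⟨fun s hs => ?_, F, iF, iFF, by omega, ⟨e⟩⟩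
  by_contra hss
  obtain ⟨r, t, n, -, -, -, ht, hrt, hr4, -, -, -⟩ := exists_root_zpowers P.2 hs hss
  have h20 : (2 : F) = 0 := by
    haveI : CharP F 2 := h2 ▸ ringChar.charP F
    exact_mod_cast CharP.cast_eq_zero F 2
  have h1 := psl_sq_eq_one h20 (e r) (by rw [← map_pow, ← hr4, pow_orderOf_eq_one, map_one])
  rw [← map_pow, MulEquiv.map_eq_one_iff, pow_two, hrt] at h1
  exact CfsgLib.Invol.invol_ne_one ht h1

/-- A commutative Sylow 2-subgroup is elementary and the group is `PSL₂(q)`. -/
theorem Std.psl_of_abelian (S : Std G) (P : Sylow 2 G)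
    (hab : ∀ a ∈ (P : Subgroup G), ∀ b ∈ (P : Subgroup G), a * b = b * a) :
    (∀ s ∈ (P : Subgroup G), s * s = 1) ∧ ∃ (F : Type) (_ : Field F) (_ : Fintype F), 3 < Fintype.card F ∧
      Nonempty (G ≃* Matrix.ProjectiveSpecialLinearGroup (Fin 2) F) := by
  classical
  haveI : Fact (Nat.Prime 2) := ⟨Nat.prime_two⟩
  haveI : IsMulCommutative (P : Subgroup G) := ⟨⟨fun a b => Subtype.ext (hab a a.2 b b.2)⟩⟩
  by_cases hsame : ∀ i ∈ (P : Subgroup G), ∀ j ∈ (P : Subgroup G), orderOf i = 2 → orderOf j = 2 →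
      centralizer ({i} : Set G) = centralizer ({j} : Set G)
  · exact S.psl_of_same P hab hsame
  push Not at hsame
  -- an involution `i` with an element `x` of odd prime order in its centralizer, and `j` inverting it
  obtain ⟨i, hiP, hi, x, hx, hx1, hxp, hxi, j, hjP, hj, hxj⟩ : ∃ i ∈ (P : Subgroup G), orderOf i = 2 ∧
      ∃ x : G, Odd (orderOf x) ∧ x ≠ 1 ∧ (orderOf x).Prime ∧ Commute x i ∧
      ∃ j ∈ (P : Subgroup G), orderOf j = 2 ∧ ¬ Commute x j := by
    obtain ⟨i, hiP, j, hjP, hi, hj, hne⟩ := hsame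
    have key : ∀ {i j : G}, orderOf i = 2 → orderOf j = 2 → ∀ z : G, Odd (orderOf z) → Commute z i →
        ¬ Commute z j → ∃ x : G, Odd (orderOf x) ∧ x ≠ 1 ∧ (orderOf x).Prime ∧ Commute x i ∧ ¬ Commute x j := by
      intro i j hi hj z hz hzi hzj
      have hz1 : orderOf z ≠ 1 := fun e => hzj (by rw [orderOf_eq_one_iff.1 e]; exact Commute.one_left j)
      obtain ⟨p, hp, hpd⟩ := Nat.exists_prime_and_dvd hz1
      have hd : orderOf z / p ∣ orderOf z := Nat.div_dvd_of_dvd hpd
      have hd0 : orderOf z / p ≠ 0 := (Nat.div_pos (Nat.le_of_dvd (orderOf_pos z) hpd) hp.pos).ne'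
      have ho : orderOf (z ^ (orderOf z / p)) = p := by
        rw [orderOf_pow_of_dvd hd0 hd, Nat.div_div_self hpd (orderOf_pos z).ne']
      refine ⟨z ^ (orderOf z / p), hz.of_dvd_nat (orderOf_pow_dvd _), fun e => hp.one_lt.ne' ?_, by rwa [ho],
        hzi.pow_left _, fun hc => ?_⟩
      · rw [← ho, e, orderOf_one]
      · -- then `C(i) = C(j)`
        have h1 : z ^ (orderOf z / p) ≠ 1 := fun e => hp.one_lt.ne' (by rw [← ho, e, orderOf_one])
        have e := S.hyp.cent_eq hi hj (hz.of_dvd_nat (orderOf_pow_dvd _)) h1 (hzi.pow_left _) hc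
        have : z ∈ centralizer ({i} : Set G) := mem_centralizer_singleton_iff.2 hzi.eq
        rw [e] at this
        exact hzj (mem_centralizer_singleton_iff.1 this)
    by_cases h1 : ∀ z : G, Odd (orderOf z) → Commute z i → Commute z j
    · by_cases h2 : ∀ z : G, Odd (orderOf z) → Commute z j → Commute z i
      · exact absurd (S.cent_same P hab hiP hjP hi hj fun z hz => ⟨h1 z hz, h2 z hz⟩) hne
      · push Not at h2
        obtain ⟨z, hz, hzj, hzi⟩ := h2
        obtain ⟨x, a, b, c, d, e⟩ := key hj hi z hz hzj hzi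
        exact ⟨j, hjP, hj, x, a, b, c, d, i, hiP, hi, e⟩
    · push Not at h1
      obtain ⟨z, hz, hzi, hzj⟩ := h1
      obtain ⟨x, a, b, c, d, e⟩ := key hi hj z hz hzi hzj
      exact ⟨i, hiP, hi, x, a, b, c, d, j, hjP, hj, e⟩
  have hinvol : ∀ {a b : G}, a ∈ (P : Subgroup G) → b ∈ (P : Subgroup G) → a * a = 1 → b * b = 1 →
      a * b * (a * b) = 1 := fun {a b} ha hb ea eb => by
    rw [mul_assoc, ← mul_assoc b a, hab b hb a ha, mul_assoc a b b, eb, mul_one, ea]
  -- two involutions not centralizing an element of prime order have a product centralizing it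
  have hprod : ∀ {w x : G}, orderOf w = 2 → Commute x w → Odd (orderOf x) → (orderOf x).Prime →
      ∀ {a b : G}, orderOf a = 2 → orderOf b = 2 → Commute a w → Commute b w → ¬ Commute x a → ¬ Commute x b →
        Commute x (a * b) := by
    intro w x hw hxw hxo hxp a b ha hb haw hbw hna hnb
    haveI := Fact.mk hxp
    have hinvert : ∀ {a : G}, orderOf a = 2 → Commute a w → ¬ Commute x a → a * x * a⁻¹ = x⁻¹ := by
      intro a ha haw hna
      obtain ⟨k, hk⟩ := (mem_powers_iff_mem_zpowers.2 (S.hyp.odd_conj_mem hw hxo hxw haw) :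
        a * x * a⁻¹ ∈ Submonoid.powers x)
      have hk' : x ^ k = a * x * a⁻¹ := hk
      have e2 : x ^ (k * k) = x ^ 1 := by
        rw [pow_mul, hk', conj_pow, hk', pow_one]
        calc a * (a * x * a⁻¹) * a⁻¹ = a * a * x * (a * a)⁻¹ := by group
          _ = x := by rw [CfsgLib.Invol.invol_mul_self ha, one_mul, inv_one, mul_one]
      rw [pow_inj_mod] at e2
      have hz : ((k : ZMod (orderOf x)) * k) = 1 := by
        rw [← Nat.cast_mul, ← Nat.cast_one, ZMod.natCast_eq_natCast_iff']; exact e2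
      rcases mul_self_eq_one_iff.1 hz with hk1 | hk1
      · exfalso; apply hna
        have : x ^ k = x ^ 1 := by
          rw [pow_inj_mod, ← ZMod.natCast_eq_natCast_iff', hk1, Nat.cast_one]
        rw [hk', pow_one] at this
        exact (show Commute a x from mul_inv_eq_iff_eq_mul.1 this).symm
      · have : x ^ (k + 1) = 1 := by
          rw [← orderOf_dvd_iff_pow_eq_one, ← ZMod.natCast_eq_zero_iff, Nat.cast_add, hk1, Nat.cast_one,
            neg_add_cancel]
        rw [pow_succ, hk'] at this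
        exact eq_inv_of_mul_eq_one_left this
    have e : (a * b) * x * (a * b)⁻¹ = x := by
      calc (a * b) * x * (a * b)⁻¹ = a * (b * x * b⁻¹) * a⁻¹ := by group
        _ = x := by rw [hinvert hb hbw hnb, ← conj_inv, hinvert ha haw hna, inv_inv]
    exact (show Commute (a * b) x from mul_inv_eq_iff_eq_mul.1 e).symm
  by_cases hbigK : ∃ k ∈ (P : Subgroup G), orderOf k = 2 ∧ Commute x k ∧ k ≠ i
  · exfalso
    obtain ⟨k, hkP, hk, hxk, hki⟩ := hbigK
    -- no other class of involutions centralizes a nontrivial odd element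
    have hA1 : ∀ l ∈ (P : Subgroup G), orderOf l = 2 → ¬ Commute x l → ∀ z : G, Odd (orderOf z) →
        Commute z l → z = 1 := by
      intro l hlP hl hxl z hz hzl
      by_contra hz1
      obtain ⟨p, hp, hpd⟩ := Nat.exists_prime_and_dvd (fun e => hz1 (orderOf_eq_one_iff.1 e))
      set z' := z ^ (orderOf z / p) with hz'
      have hd0 : orderOf z / p ≠ 0 := (Nat.div_pos (Nat.le_of_dvd (orderOf_pos z) hpd) hp.pos).ne'
      have ho : orderOf z' = p := by
        rw [hz', orderOf_pow_of_dvd hd0 (Nat.div_dvd_of_dvd hpd), Nat.div_div_self hpd (orderOf_pos z).ne']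
      have hzo : Odd (orderOf z') := hz.of_dvd_nat (orderOf_pow_dvd _)
      have hz'1 : z' ≠ 1 := fun e => hp.one_lt.ne' (by rw [← ho, e, orderOf_one])
      have hzl' : Commute z' l := hzl.pow_left _
      have hcl : ∀ m ∈ (P : Subgroup G), orderOf m = 2 → Commute x m → ¬ Commute z' m := by
        intro m hmP hm hxm hzm
        have e1 := S.hyp.cent_eq hl hm hzo hz'1 hzl' hzm
        have : x ∈ centralizer ({m} : Set G) := mem_centralizer_singleton_iff.2 hxm.eq
        rw [← e1] at this
        exact hxl (mem_centralizer_singleton_iff.1 this)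
      have hii := CfsgLib.Invol.invol_mul_self hi
      have hkk := CfsgLib.Invol.invol_mul_self hk
      have hik : orderOf (i * k) = 2 := CfsgLib.Invol.invol_of_mul_self (hinvol hiP hkP hii hkk) fun e =>
        hki (by rw [← inv_eq_of_mul_eq_one_right e, CfsgLib.Invol.invol_inv hi])
      exact hcl _ (mul_mem hiP hkP) hik (hxi.mul_right hxk)
        (hprod hl hzl' hzo (by rwa [ho]) hi hk (hab i hiP l hlP) (hab k hkP l hlP)
          (hcl i hiP hi hxi) (hcl k hkP hk hxk))
    -- the product over an orbit of the normalizer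
    set N := Subgroup.normalizer ((P : Subgroup G) : Set G) with hN
    let O : Finset G := (Set.toFinite {w : G | ∃ n ∈ N, n * j * n⁻¹ = w}).toFinset
    have hO : ∀ w, w ∈ O ↔ ∃ n ∈ N, n * j * n⁻¹ = w := fun w => Set.Finite.mem_toFinset _
    have hOP : ∀ w ∈ O, w ∈ (P : Subgroup G) ∧ orderOf w = 2 ∧ ¬ Commute x w := by
      intro w hw
      obtain ⟨n, hn, rfl⟩ := (hO w).1 hw
      have hw2 : orderOf (n * j * n⁻¹) = 2 := by rw [CfsgLib.Invol.orderOf_conj_eq, hj]
      refine ⟨(mem_normalizer_iff.1 hn j).1 hjP, hw2, fun hc => ?_⟩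
      have h1 := hc.conj n⁻¹
      rw [inv_inv, show n⁻¹ * (n * j * n⁻¹) * n = j by group] at h1
      have := hA1 j hjP hj hxj _ (by
        rw [show n⁻¹ * x * n = n⁻¹ * x * (n⁻¹)⁻¹ by rw [inv_inv], CfsgLib.Invol.orderOf_conj_eq]; exact hx) h1
      exact hx1 (by
        calc x = n * (n⁻¹ * x * n) * n⁻¹ := by group
          _ = 1 := by rw [this, mul_one, mul_inv_cancel])
    have hcardO : Odd O.card := by
      have hfix : ∀ w, w ∈ O ↔ ∃ n : N, (n : G) * j * (n : G)⁻¹ = w := fun w =>
        (hO w).trans ⟨fun ⟨n, hn, e⟩ => ⟨⟨n, hn⟩, e⟩, fun ⟨n, e⟩ => ⟨n, n.2, e⟩⟩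
      let e : N ⧸ (centralizer ({j} : Set G)).subgroupOf N ≃ {w // w ∈ O} :=
        Equiv.ofBijective (Quotient.lift (fun n : N => (⟨(n : G) * j * (n : G)⁻¹, (hfix _).2 ⟨n, rfl⟩⟩ : {w // w ∈ O}))
          (fun a b hab' => by
            have h' := mem_centralizer_singleton_iff.1 (mem_subgroupOf.1 (QuotientGroup.leftRel_apply.1 hab'))
            refine Subtype.ext ?_
            simp only [Subgroup.coe_mul, InvMemClass.coe_inv] at h'
            calc (a : G) * j * (a : G)⁻¹ = (b : G) * ((b : G)⁻¹ * a * j) * (a : G)⁻¹ := by group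
              _ = (b : G) * (j * ((b : G)⁻¹ * a)) * (a : G)⁻¹ := by
                  have h'' : Commute ((a : G)⁻¹ * b) j := h'
                  rw [show (b : G)⁻¹ * a * j = j * ((b : G)⁻¹ * a) by
                    have := h''.inv_left
                    rw [mul_inv_rev, inv_inv] at this
                    exact this.eq]
              _ = (b : G) * j * (b : G)⁻¹ := by group))
          ⟨fun q₁ q₂ => Quotient.inductionOn₂ q₁ q₂ fun a b hab' => Quotient.sound
              (QuotientGroup.leftRel_apply.2 (mem_subgroupOf.2 (mem_centralizer_singleton_iff.2 (by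
                have h' : (a : G) * j * (a : G)⁻¹ = (b : G) * j * (b : G)⁻¹ := congrArg Subtype.val hab'
                simp only [Subgroup.coe_mul, InvMemClass.coe_inv]
                calc (a : G)⁻¹ * b * j = (a : G)⁻¹ * ((b : G) * j * (b : G)⁻¹) * b := by group
                  _ = (a : G)⁻¹ * ((a : G) * j * (a : G)⁻¹) * b := by rw [h']
                  _ = j * ((a : G)⁻¹ * b) := by group)))),
            fun w => by
              obtain ⟨n, hn⟩ := (hfix w.1).1 w.2
              exact ⟨Quotient.mk _ n, Subtype.ext hn⟩⟩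
      have hcard : O.card = ((centralizer ({j} : Set G)).subgroupOf N).index := by
        rw [index_eq_card, Nat.card_congr e, Nat.card_eq_fintype_card, Fintype.card_coe]
      rw [hcard]
      have hPle : (P : Subgroup G).subgroupOf N ≤ (centralizer ({j} : Set G)).subgroupOf N := fun p hp =>
        mem_subgroupOf.2 (mem_centralizer_singleton_iff.2 (hab _ (mem_subgroupOf.1 hp) j hjP))
      refine Odd.of_dvd_nat ?_ (index_dvd_of_le hPle)
      refine Odd.of_dvd_nat (Nat.not_even_iff_odd.1 fun he => P.not_dvd_index (even_iff_two_dvd.1 he)) ?_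
      exact relIndex_dvd_index_of_le (le_normalizer)
    have hcommO : (O : Set G).Pairwise (Function.onFun Commute id) := fun a ha b hb _ =>
      hab a (hOP a ha).1 b (hOP b hb).1
    set p := O.noncommProd id hcommO with hp_def
    have key : ∀ T : Finset G, (hT : (T : Set G).Pairwise (Function.onFun Commute id)) →
        (∀ w ∈ T, w ∈ (P : Subgroup G) ∧ orderOf w = 2 ∧ ¬ Commute x w) →
        T.noncommProd id hT ∈ (P : Subgroup G) ∧ T.noncommProd id hT * T.noncommProd id hT = 1 ∧
          (Commute x (T.noncommProd id hT) ↔ Even T.card) := by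
      intro T
      induction T using Finset.induction_on with
      | empty =>
        intro _ _
        rw [Finset.noncommProd_empty]
        exact ⟨one_mem _, one_mul 1, ⟨fun _ => ⟨0, rfl⟩, fun _ => Commute.one_right x⟩⟩
      | insert a T haT ih =>
        intro hT hall
        rw [Finset.noncommProd_insert_of_notMem _ _ _ _ haT]
        obtain ⟨q1, q2, q3⟩ := ih (hT.mono (by simp)) (fun w hw => hall w (Finset.mem_insert_of_mem hw))
        obtain ⟨haP, ha2, hxa⟩ := hall a (Finset.mem_insert_self a T)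
        set q := T.noncommProd id _
        refine ⟨mul_mem haP q1, hinvol haP q1 (CfsgLib.Invol.invol_mul_self ha2) q2, ?_⟩
        rw [Finset.card_insert_of_notMem haT, Nat.even_add_one, ← q3]
        constructor
        · intro hc hq
          have := hc.mul_right hq.inv_right
          rw [show id a * q * q⁻¹ = a by simp] at this
          exact hxa this
        · intro hq
          have hq1 : q ≠ 1 := fun e => hq (e ▸ Commute.one_right x)
          exact hprod hi hxi hx hxp ha2 (CfsgLib.Invol.invol_of_mul_self q2 hq1) (hab a haP i hiP)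
            (hab q q1 i hiP) hxa hq
    obtain ⟨hpP, hpp, hpx⟩ := key O hcommO hOP
    have hp2 : orderOf p = 2 := CfsgLib.Invol.invol_of_mul_self hpp fun e =>
      Nat.not_even_iff_odd.2 hcardO (hpx.1 (by
        rw [show O.noncommProd id hcommO = 1 from e]; exact Commute.one_right x))
    refine S.not_fixed P hab hpP hp2 fun n hn => ?_
    let c : G ↪ G := ⟨fun w => n * w * n⁻¹, fun a b e => mul_left_cancel (mul_right_cancel e)⟩
    have himg : O.map c = O := by
      refine Finset.eq_of_subset_of_card_le (fun w hw => ?_) (by rw [Finset.card_map])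
      obtain ⟨v, hv, rfl⟩ := Finset.mem_map.1 hw
      obtain ⟨m, hm, rfl⟩ := (hO v).1 hv
      exact (hO _).2 ⟨n * m, mul_mem hn hm, by show _ = n * (m * j * m⁻¹) * n⁻¹; group⟩
    have hmap : ∀ T : Finset G, ∀ hT : (T : Set G).Pairwise (Function.onFun Commute id),
        ∀ U : Finset G, U = T.map c → ∀ hU : (U : Set G).Pairwise (Function.onFun Commute id),
        U.noncommProd id hU = n * T.noncommProd id hT * n⁻¹ := by
      intro T
      induction T using Finset.induction_on with
      | empty =>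
        intro hT U eU hU
        rw [Finset.map_empty] at eU
        subst eU
        rw [Finset.noncommProd_empty, mul_one, mul_inv_cancel]
      | insert a T haT ih =>
        intro hT U eU hU
        rw [Finset.map_insert] at eU
        subst eU
        rw [Finset.noncommProd_insert_of_notMem (T.map c) (c a) id _ (by simpa using haT),
          Finset.noncommProd_insert_of_notMem T a id _ haT, ih (hT.mono (by simp)) (T.map c) rfl]
        show n * a * n⁻¹ * _ = n * (a * _) * n⁻¹
        rw [conj_mul]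
    rw [← hmap O hcommO O himg.symm hcommO]
  push Not at hbigK
  -- four involutions
  have hxn : ∀ k ∈ (P : Subgroup G), orderOf k = 2 → k ≠ i → ¬ Commute x k := fun k hkP hk hne hc =>
    hne (hbigK k hkP hk hc)
  have hij : i ≠ j := fun e => hxj (e ▸ hxi)
  have hij2 : orderOf (i * j) = 2 := CfsgLib.Invol.invol_of_mul_self
    (hinvol hiP hjP (CfsgLib.Invol.invol_mul_self hi) (CfsgLib.Invol.invol_mul_self hj))
    fun e => hij (by rw [← inv_eq_of_mul_eq_one_right e, CfsgLib.Invol.invol_inv hi])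
  have hfour : ∀ k ∈ (P : Subgroup G), orderOf k = 2 → k = i ∨ k = j ∨ k = i * j := by
    intro k hkP hk
    by_cases hki : k = i
    · exact Or.inl hki
    by_cases hkj : k = j
    · exact Or.inr (Or.inl hkj)
    refine Or.inr (Or.inr ?_)
    have hkj2 : orderOf (k * j) = 2 := CfsgLib.Invol.invol_of_mul_self
      (hinvol hkP hjP (CfsgLib.Invol.invol_mul_self hk) (CfsgLib.Invol.invol_mul_self hj))
      fun e => hkj (by rw [mul_eq_one_iff_eq_inv.1 e, CfsgLib.Invol.invol_inv hj])
    have e := hbigK _ (mul_mem hkP hjP) hkj2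
      (hprod hi hxi hx hxp hk hj (hab k hkP i hiP) (hab j hjP i hiP) (hxn k hkP hk hki) hxj)
    rw [← e, mul_assoc, CfsgLib.Invol.invol_mul_self hj, mul_one]
  set N := Subgroup.normalizer ((P : Subgroup G) : Set G) with hN
  -- the permutation of the three involutions
  let ι : Fin 3 → {w : G // w ∈ (P : Subgroup G) ∧ orderOf w = 2} :=
    ![⟨i, hiP, hi⟩, ⟨j, hjP, hj⟩, ⟨i * j, mul_mem hiP hjP, hij2⟩]
  have hιb : Function.Bijective ι := by
    have d1 : i ≠ i * j := fun e => CfsgLib.Invol.invol_ne_one hj (mul_eq_left.1 e.symm)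
    have d2 : j ≠ i * j := fun e => CfsgLib.Invol.invol_ne_one hi (mul_eq_right.1 e.symm)
    refine ⟨fun u v e => ?_, fun w => ?_⟩
    · have e' : (ι u : G) = ι v := congrArg Subtype.val e
      fin_cases u <;> fin_cases v <;>
        first
        | rfl
        | exact absurd e' hij
        | exact absurd e'.symm hij
        | exact absurd e' d1
        | exact absurd e'.symm d1
        | exact absurd e' d2
        | exact absurd e'.symm d2
    · rcases hfour w.1 w.2.1 w.2.2 with e | e | e
      · exact ⟨0, Subtype.ext e.symm⟩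
      · exact ⟨1, Subtype.ext e.symm⟩
      · exact ⟨2, Subtype.ext e.symm⟩
  let eι := Equiv.ofBijective ι hιb
  let cj : N → ({w : G // w ∈ (P : Subgroup G) ∧ orderOf w = 2} ≃ {w : G // w ∈ (P : Subgroup G) ∧ orderOf w = 2}) :=
    fun n =>
    { toFun := fun w => ⟨(n : G) * w.1 * (n : G)⁻¹, (mem_normalizer_iff.1 n.2 w.1).1 w.2.1,
        by rw [CfsgLib.Invol.orderOf_conj_eq]; exact w.2.2⟩
      invFun := fun w => ⟨(n : G)⁻¹ * w.1 * n, (mem_normalizer_iff''.1 n.2 w.1).1 w.2.1,
        by rw [CfsgLib.Invol.orderOf_conj_inv_eq]; exact w.2.2⟩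
      left_inv := fun w => Subtype.ext (by show (n : G)⁻¹ * ((n : G) * w.1 * (n : G)⁻¹) * n = w.1; group)
      right_inv := fun w => Subtype.ext (by show (n : G) * ((n : G)⁻¹ * w.1 * n) * (n : G)⁻¹ = w.1; group) }
  let act : N →* Equiv.Perm (Fin 3) :=
    { toFun := fun n => eι.trans ((cj n).trans eι.symm)
      map_one' := Equiv.ext fun u => by simp [cj]
      map_mul' := fun n₁ n₂ => Equiv.ext fun u => eι.injective (Subtype.ext (by simp [cj, mul_assoc])) }
  have hact : ∀ (n : N) (u : Fin 3), (ι (act n u) : G) = (n : G) * ι u * (n : G)⁻¹ := fun n u => by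
    show ((eι (act n u)) : G) = _
    simp [act, cj, eι]
  have hactP : ∀ n : N, (n : G) ∈ (P : Subgroup G) → act n = 1 := fun n hn => Equiv.ext fun u =>
    hιb.1 (Subtype.ext (by
      rw [hact n u, hab _ hn _ (ι u).2.1, mul_inv_cancel_right]; rfl))
  have hcube : ∀ n : N, act n ^ 3 = 1 := by
    intro n
    obtain ⟨c, d, hd, hcd⟩ := Nat.exists_eq_two_pow_mul_odd (orderOf_pos (n : G)).ne'
    have hp2 : IsPGroup 2 (zpowers ((n : G) ^ d)) := IsPGroup.of_card (n := c) (by
      rw [Nat.card_zpowers, orderOf_pow_of_dvd hd.pos.ne' (hcd ▸ dvd_mul_left d _), hcd,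
        Nat.mul_div_cancel _ hd.pos])
    have hdP : (n : G) ^ d ∈ (P : Subgroup G) := by
      have h' : IsPGroup 2 ↥(zpowers ((n : G) ^ d) ⊔ (P : Subgroup G)) :=
        hp2.to_sup_of_normal_right' P.2 (zpowers_le.2 (pow_mem n.2 d))
      rw [← P.3 h' le_sup_right]
      exact mem_sup_left (mem_zpowers _)
    have h1 : act n ^ d = 1 := by
      rw [← map_pow]; exact hactP _ (by rw [SubgroupClass.coe_pow]; exact hdP)
    have hperm : ∀ σ : Equiv.Perm (Fin 3), σ ^ 3 = 1 ∨ σ ^ 2 = 1 := by decide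
    rcases hperm (act n) with h | h
    · exact h
    · obtain ⟨e, he⟩ := hd
      rw [he, pow_succ, pow_mul, h, one_pow, one_mul] at h1
      rw [h1, one_pow]
  obtain ⟨n, hn, a, ha, hna⟩ : ∃ n ∈ N, ∃ a : ℕ, orderOf n = 3 ^ a ∧ n * i * n⁻¹ ≠ i := by
    obtain ⟨n, hn, hne⟩ : ∃ n ∈ N, n * i * n⁻¹ ≠ i := by
      by_contra hc
      push Not at hc
      exact S.not_fixed P hab hiP hi fun n hn => hc n hn
    obtain ⟨a, m, hm, hnm⟩ := Nat.exists_eq_pow_mul_and_not_dvd (orderOf_pos n).ne' 3 (by norm_num)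
    refine ⟨n ^ m, pow_mem hn m, a, ?_, fun e => hne ?_⟩
    · rw [orderOf_pow_of_dvd (fun e => hm (by rw [e]; exact dvd_zero 3)) (hnm ▸ dvd_mul_left m _), hnm,
        Nat.mul_div_cancel _ (Nat.pos_of_ne_zero fun e => hm (by rw [e]; exact dvd_zero 3))]
    · have h3 := hcube ⟨n, hn⟩
      have h0 : (act ⟨n, hn⟩ ^ m) 0 = 0 := hιb.1 (Subtype.ext (by
        rw [← map_pow, hact]; exact e))
      have hperm : ∀ σ : Equiv.Perm (Fin 3), σ ^ 3 = 1 →
          ((σ ^ 1) 0 = 0 → σ 0 = 0) ∧ ((σ ^ 2) 0 = 0 → σ 0 = 0) := by decide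
      have hfix : act ⟨n, hn⟩ 0 = 0 := by
        rw [pow_eq_pow_mod m h3] at h0
        have hm3 : m % 3 = 1 ∨ m % 3 = 2 := by omega
        rcases hm3 with em | em <;> rw [em] at h0
        · exact (hperm _ h3).1 h0
        · exact (hperm _ h3).2 h0
      have e' := hact ⟨n, hn⟩ 0
      rw [hfix] at e'
      exact e'.symm
  set σ := act ⟨n, hn⟩ with hσ
  have hσ3 : σ ^ 3 = 1 := hcube _
  have hσ0 : σ 0 ≠ 0 := fun e => hna (by
    have e' := hact ⟨n, hn⟩ 0
    rw [← hσ, e] at e'
    exact e'.symm)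
  have hnP : ∀ y ∈ (P : Subgroup G), n * y * n⁻¹ ∈ (P : Subgroup G) := fun y hy => (mem_normalizer_iff.1 hn y).1 hy
  have hσι : ∀ u : Fin 3, (ι (σ u) : G) = n * ι u * n⁻¹ := fun u => hact ⟨n, hn⟩ u
  have hmove : ∀ y ∈ (P : Subgroup G), orderOf y = 2 → n * y * n⁻¹ ≠ y := by
    intro y hy hy2 he
    obtain ⟨u, hu⟩ := hιb.2 ⟨y, hy, hy2⟩
    have hu' : (ι u : G) = y := congrArg Subtype.val hu
    have hperm : ∀ σ : Equiv.Perm (Fin 3), σ ^ 3 = 1 → ∀ u, σ u = u → σ 0 = 0 := by decide
    exact hσ0 (hperm σ hσ3 u (hιb.1 (Subtype.ext (by rw [hσι, hu', he]))))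
  have hall : ∀ k ∈ (P : Subgroup G), orderOf k = 2 →
      k = i ∨ k = n * i * n⁻¹ ∨ k = n * (n * i * n⁻¹) * n⁻¹ := by
    intro k hk hk2
    obtain ⟨u, hu⟩ := hιb.2 ⟨k, hk, hk2⟩
    have hu' : (ι u : G) = k := congrArg Subtype.val hu
    have hperm : ∀ σ : Equiv.Perm (Fin 3), σ ^ 3 = 1 → σ 0 ≠ 0 →
        ∀ u, u = 0 ∨ u = σ 0 ∨ u = σ (σ 0) := by decide
    rcases hperm σ hσ3 hσ0 u with e | e | e <;> rw [e] at hu'
    · exact Or.inl hu'.symm
    · rw [hσι] at hu'; exact Or.inr (Or.inl hu'.symm)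
    · rw [hσι, hσι] at hu'; exact Or.inr (Or.inr hu'.symm)
  have hclass : ∀ w : G, orderOf w = 2 → IsConj i w := by
    intro w hw
    obtain ⟨g, hg⟩ := invol_conj_into P hw
    have hgw : IsConj w (g * w * g⁻¹) := isConj_iff.2 ⟨g, rfl⟩
    refine IsConj.trans ?_ hgw.symm
    rcases hall _ hg (by rw [CfsgLib.Invol.orderOf_conj_eq, hw]) with e | e | e <;> rw [e]
    · exact isConj_iff.2 ⟨n, rfl⟩
    · exact isConj_iff.2 ⟨n * n, by group⟩
  by_cases hel : ∀ s ∈ (P : Subgroup G), s * s = 1
  · refine ⟨hel, ?_⟩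
    have hP4 : ∀ p ∈ (P : Subgroup G), ∃ b ∈ zpowers i, p = b ∨ p = b * j := by
      intro p hp
      by_cases hp1 : p = 1
      · exact ⟨1, one_mem _, Or.inl hp1⟩
      rcases hfour p hp (CfsgLib.Invol.invol_of_mul_self (hel p hp) hp1) with e | e | e
      · exact ⟨i, mem_zpowers i, Or.inl e⟩
      · exact ⟨1, one_mem _, Or.inr (by rw [one_mul, e])⟩
      · exact ⟨i, mem_zpowers i, Or.inr e⟩
    have hzi : ∀ b ∈ zpowers i, b = 1 ∨ b = i := by
      intro b hb
      by_cases hb1 : b = 1
      · exact Or.inl hb1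
      · refine Or.inr ?_
        have hbP : b ∈ (P : Subgroup G) := (zpowers_le.2 hiP) hb
        rcases sq_one_zpowers (n := 0) (g := i) (by rw [hi]; rfl) hb (hel b hbP) with e | e
        · exact absurd e hb1
        · rwa [pow_zero, pow_one] at e
    have L : Local S.hyp i (zpowers i) j :=
      { ht := hi
        tB := mem_zpowers i
        two := P.2.to_le (zpowers_le.2 hiP)
        cent := fun b hb => hab b ((zpowers_le.2 hiP) hb) i hiP
        comm := fun a ha b hb => hab a ((zpowers_le.2 hiP) ha) b ((zpowers_le.2 hiP) hb)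
        uniq := fun k hk hk2 => (hzi k hk).resolve_left (CfsgLib.Invol.invol_ne_one hk2)
        cA := fun b hb z hz _ => by
          rcases hzi b hb with e | e <;> rw [e]
          · exact Commute.one_right z
          · exact hz
        hs := hj
        st := hab j hjP i hiP
        sB := fun h' => by
          rcases hzi j h' with e | e
          · exact CfsgLib.Invol.invol_ne_one hj e
          · exact hij e.symm
        inv := fun b hb => by
          rw [hab j hjP b ((zpowers_le.2 hiP) hb), mul_inv_cancel_right]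
          rcases hzi b hb with e | e <;> rw [e]
          · exact inv_one.symm
          · exact (CfsgLib.Invol.invol_inv hi).symm
        fix_odd := fun z hzi' hz hjz => by
          by_contra hz1
          have e := S.hyp.cent_eq hi hj hz hz1 hzi' hjz.symm
          have : x ∈ centralizer ({i} : Set G) := mem_centralizer_singleton_iff.2 hxi.eq
          rw [e] at this
          exact hxj (mem_centralizer_singleton_iff.1 this)
        dec := fun g hg => by
          obtain ⟨a, hat, hao, p, hp, e⟩ := cent_decomp S.hyp hi P (fun p hp => hab p hp i hiP) hg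
          obtain ⟨b, hb, e' | e'⟩ := hP4 p hp
          · exact ⟨a, hat, hao, b, hb, Or.inl (e' ▸ e)⟩
          · exact ⟨a, hat, hao, b, hb, Or.inr (by rw [e, e', mul_assoc])⟩ }
    obtain ⟨F, iF, iFF, -, h5, he⟩ := S.psl_of_local L fun a b ha hb => (hclass a ha).symm.trans (hclass b hb)
    exact ⟨F, iF, iFF, by omega, he⟩
  · exfalso
    push Not at hel
    obtain ⟨s, hsP, hss⟩ := hel
    obtain ⟨r, t, k, -, -, -, -, -, hr4, -, -, hrP⟩ := exists_root_zpowers P.2 hsP hss
    let ψ : MulAut (P : Subgroup G) :=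
      { toFun := fun y => ⟨n * y * n⁻¹, hnP y y.2⟩
        invFun := fun y => ⟨n⁻¹ * y * n, (mem_normalizer_iff''.1 hn _).1 y.2⟩
        left_inv := fun y => Subtype.ext (by show n⁻¹ * (n * (y : G) * n⁻¹) * n = y; group)
        right_inv := fun y => Subtype.ext (by show n * (n⁻¹ * (y : G) * n) * n⁻¹ = y; group)
        map_mul' := fun y z => Subtype.ext (by show n * ((y : G) * z) * n⁻¹ = _ * _; rw [conj_mul]) }
    have hψ : ∀ (m : ℕ) (y : (P : Subgroup G)), (((ψ ^ m) y : (P : Subgroup G)) : G) = n ^ m * y * (n ^ m)⁻¹ := by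
      intro m
      induction m with
      | zero => intro y; simp
      | succ m ih =>
        intro y
        rw [pow_succ', MulAut.mul_apply]
        show n * (((ψ ^ m) y : (P : Subgroup G)) : G) * n⁻¹ = _
        rw [ih, pow_succ']; group
    have hHig : CfsgLib.Invol.HigData (P : Subgroup G) :=
      { ψ := ψ
        z := ⟨i, hiP⟩
        pgroup := P.2
        order := ⟨a, by
          ext y
          show (((ψ ^ 3 ^ a) y : (P : Subgroup G)) : G) = y
          rw [hψ, ← ha, pow_orderOf_eq_one, one_mul, inv_one, mul_one]⟩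
        fpf := fun y hy => by
          have hy' : n * (y : G) * n⁻¹ = y := congrArg Subtype.val hy
          by_contra hy1
          have hy1' : (y : G) ≠ 1 := fun e => hy1 (Subtype.ext e)
          by_cases hyy : (y : G) * y = 1
          · exact hmove y y.2 (CfsgLib.Invol.invol_of_mul_self hyy hy1') hy'
          · obtain ⟨r', t', m, -, -, htm, ht', -, -, -, htg, -⟩ := exists_root_zpowers P.2 y.2 hyy
            refine hmove t' ((zpowers_le.2 y.2) htg) ht' ?_
            rw [htm, ← conj_pow, hy']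
        z_two := by rw [Subgroup.orderOf_mk]; exact hi
        central := fun s _ g => Subtype.ext (hab _ s.2 _ g.2)
        cover := fun s hs => by
          have hs' : (s : G) * s = 1 := congrArg Subtype.val hs
          by_cases hs1 : (s : G) = 1
          · exact Or.inl (Subtype.ext hs1)
          rcases hall _ s.2 (CfsgLib.Invol.invol_of_mul_self hs' hs1) with e | e | e
          · exact Or.inr (Or.inl (Subtype.ext e))
          · exact Or.inr (Or.inr (Or.inl (Subtype.ext e)))
          · exact Or.inr (Or.inr (Or.inr (Subtype.ext e))) }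
    obtain ⟨m, hm, ⟨e⟩⟩ := hHig.homocyclic fun u v => Subtype.ext (hab _ u.2 _ v.2)
    have hm2 : 2 ≤ m := by
      by_contra hlt
      obtain rfl : m = 1 := by omega
      have h0 : ∀ w : Multiplicative (ZMod (2 ^ 1) × ZMod (2 ^ 1)), w * w = 1 := by decide +revert
      have hr2 : (⟨r, hrP⟩ : (P : Subgroup G)) * ⟨r, hrP⟩ = 1 :=
        e.injective (by rw [map_mul, map_one]; exact h0 _)
      have : orderOf r ∣ 2 := orderOf_dvd_of_pow_eq_one (by rw [pow_two]; exact congrArg Subtype.val hr2)
      rw [hr4] at this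
      norm_num at this
    have hnor := CfsgLib.Invol.Homocyclic.sylow_normal _ rfl P hm2 e S.odd_normal
    haveI := hnor
    haveI : Group.IsNilpotent (P : Subgroup G) := P.isPGroup'.isNilpotent
    have : Group.IsSolvable (G ⧸ (P : Subgroup G)) := CfsgLib.FT.odd_order_solvable (by
      rw [← Subgroup.index_eq_card]
      exact Nat.not_even_iff_odd.1 fun he => P.not_dvd_index (even_iff_two_dvd.1 he))
    exact S.notSolvable (solvable_of_ker_le_range (P : Subgroup G).subtype
      (QuotientGroup.mk' (P : Subgroup G)) (by rw [QuotientGroup.ker_mk', range_subtype]))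

end CfsgLib.Recog.NormCyclic
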