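import Cfsg.Agent.Lib.Recog.NormCyclic.Dihedral
import Cfsg.Agent.Lib.ClassK.PushPSL
import Cfsg.Agent.Lib.PLocal.PSLTwoBorel
import Cfsg.Agent.Lib.Geom.DicksonBorel
import Cfsg.Agent.Lib.Classical.PSLTwoMaximal
import Cfsg.Agent.Lib.Classical.SLTwoCent
import Cfsg.Agent.Lib.Perm.SharplyThree
import Cfsg.Agent.Lib.Invol.CAInvol

/-!
A standard group with a normal subgroup `PSL₂(q)` of index two is `PGL₂(q)`.
-/

set_option autoImplicit false
set_option linter.unusedSectionVars false

namespace CfsgLib.Recog.NormCyclic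

open Subgroup Matrix
open scoped MatrixGroups

universe u

section psl

variable {F : Type*} [Field F] [Fintype F] {p n : ℕ} [Fact p.Prime]

local notation "PS" => Matrix.ProjectiveSpecialLinearGroup (Fin 2) F

/-- An element centralizing a nontrivial `p`-element of `PSL₂` has order dividing `p`. -/
theorem psl_cent_unipotent [CharP F p] (hp : p ≠ 2) {x g : PS} {k : ℕ} (hx1 : x ≠ 1) (hx : x ^ p ^ k = 1)
    (hg : Commute g x) : g ^ p = 1 := by
  have h2 : (2 : F) ≠ 0 := CfsgLib.KnownB.SL2.two_ne (by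
    obtain ⟨m, hpr, hm⟩ := FiniteField.card F p
    rw [hm]; exact (hpr.odd_of_ne_two hp).pow)
  have hpodd : Odd (p ^ k) := ((Fact.out : p.Prime).odd_of_ne_two hp).pow
  obtain ⟨s, rfl⟩ := QuotientGroup.mk'_surjective _ x
  obtain ⟨h, rfl⟩ := QuotientGroup.mk'_surjective _ g
  set π := QuotientGroup.mk' (Subgroup.center SL(2, F))
  have hc : s ^ p ^ k ∈ Subgroup.center SL(2, F) := by
    rwa [← map_pow, QuotientGroup.mk'_apply, QuotientGroup.eq_one_iff] at hx
  set c := s ^ p ^ k with hc'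
  have hcc : c * c = 1 := by
    obtain ⟨r, hr, hrc⟩ := Matrix.SpecialLinearGroup.mem_center_iff.1 hc
    rw [Fintype.card_fin, pow_two] at hr
    refine Subtype.ext ?_
    rw [Matrix.SpecialLinearGroup.coe_mul, ← hrc, ← map_mul, hr, map_one,
      Matrix.SpecialLinearGroup.coe_one]
  set u := s * c with hu
  have hπu : π u = π s := by
    rw [hu, map_mul, show π c = 1 from (QuotientGroup.eq_one_iff _).2 hc, mul_one]
  have hup : u ^ p ^ k = 1 := by
    have hsc : Commute s c := (Subgroup.mem_center_iff.1 hc s)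
    rw [hu, hsc.mul_pow, ← hc']
    obtain ⟨j, hj⟩ := hpodd
    rw [hj, pow_succ, pow_mul, pow_two, hcc, one_pow, one_mul, hcc]
  have htu : CfsgLib.Classical.trSL u = 2 := CfsgLib.Classical.trSL_of_pow_char p hup
  have hus : ¬ CfsgLib.Classical.IsScalarSL u := fun hs => by
    refine hx1 ?_
    rw [← hπu]
    exact (QuotientGroup.eq_one_iff _).2 (Subgroup.mem_center_iff.2 fun y =>
      ((CfsgLib.Classical.commute_of_isScalarSL hs y).symm).eq)
  rw [← hπu] at hg
  have hmk : π (h * u * h⁻¹) = π u := by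
    rw [map_mul, map_mul, map_inv, hg.eq, mul_inv_cancel_right]
  have hcom : Commute h u := by
    rcases CfsgLib.KnownB.SL2.mk_eq_mk_iff.1 hmk with e | e
    · exact mul_inv_eq_iff_eq_mul.1 e
    · exfalso
      have h1 := CfsgLib.Classical.trSL_conj u h
      rw [e, htu] at h1
      have h3 : CfsgLib.Classical.trSL (CfsgLib.KnownB.SL2.negSL u) = -CfsgLib.Classical.trSL u := by
        simp [CfsgLib.Classical.trSL, CfsgLib.KnownB.SL2.coe_negSL]; ring
      rw [h3, htu] at h1
      have : (2 : F) * 2 = 0 := by linear_combination -h1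
      exact h2 (mul_self_eq_zero.1 this)
  rcases CfsgLib.Classical.trSL_of_commute_unipotent htu hus hcom with ht | ht
  · rw [← map_pow, CfsgLib.Classical.pow_char_of_trSL p ht, map_one]
  · have e : CfsgLib.Classical.trSL (CfsgLib.KnownB.SL2.negSL h) = 2 := by
      simp [CfsgLib.Classical.trSL, CfsgLib.KnownB.SL2.coe_negSL] at ht ⊢
      linear_combination -ht
    rw [← show π (CfsgLib.KnownB.SL2.negSL h) = π h from CfsgLib.KnownB.SL2.mk_negSL h, ← map_pow,
      CfsgLib.Classical.pow_char_of_trSL p e, map_one]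

/-- Sylow `p`-subgroups of `PSL₂(pⁿ)` are commutative. -/
theorem psl_sylow_comm (hF : Fintype.card F = p ^ n) (P : Sylow p PS) {a b : PS}
    (ha : a ∈ (P : Subgroup PS)) (hb : b ∈ (P : Subgroup PS)) : a * b = b * a := by
  obtain ⟨P₀, hP₀, -⟩ := CfsgLib.ClassK.Push.exists_sylow_psl (F := F) hF
  obtain ⟨e⟩ : Nonempty ((P : Subgroup PS) ≃* (P₀ : Subgroup PS)) := ⟨P.equiv P₀⟩
  have h0 : ∀ c d : (P₀ : Subgroup PS), c * d = d * c := by
    rintro ⟨c, hc⟩ ⟨d, hd⟩
    rw [hP₀] at hc hd
    obtain ⟨_, ⟨s, rfl⟩, rfl⟩ := hc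
    obtain ⟨_, ⟨t, rfl⟩, rfl⟩ := hd
    refine Subtype.ext ?_
    show _ * _ = _ * _
    rw [← map_mul, ← map_mul, ← CfsgLib.Classical.uElt_add, ← CfsgLib.Classical.uElt_add, add_comm]
  exact congrArg Subtype.val (e.injective (a₁ := ⟨a, ha⟩ * ⟨b, hb⟩) (a₂ := ⟨b, hb⟩ * ⟨a, ha⟩)
    (by rw [map_mul, map_mul, h0]))

/-- There are `q + 1` Sylow `p`-subgroups. -/
theorem psl_sylow_count (hF : Fintype.card F = p ^ n) : Nat.card (Sylow p PS) = Fintype.card F + 1 := by
  obtain ⟨P₀, hP₀, -⟩ := CfsgLib.ClassK.Push.exists_sylow_psl (F := F) hF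
  set S := CfsgLib.Classical.pointStab (F := F) Geom.Moebius.inf with hS
  have hidx : S.index = Fintype.card F + 1 := CfsgLib.Classical.index_pointStab _
  have hle : (P₀ : Subgroup PS) ≤ S := by
    rw [hP₀]
    rintro _ ⟨_, ⟨t, rfl⟩, rfl⟩
    show Matrix.ProjectiveSpecialLinearGroup.toPGL _ • (Geom.Moebius.inf : Geom.Moebius.Line F) = _
    rw [QuotientGroup.mk'_apply, Geom.Moebius.toPGL_uElt, Geom.Moebius.aff_smul_inf]
  have hSN : S ≤ Subgroup.normalizer ((P₀ : Subgroup PS) : Set PS) := by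
    refine (CfsgLib.PLocal.le_normalizer_or_eq_top_psl hF P₀ hle).resolve_right fun e => ?_
    rw [e, Subgroup.index_top] at hidx
    have := Fintype.one_lt_card (α := F)
    omega
  have hNS : Subgroup.normalizer ((P₀ : Subgroup PS) : Set PS) ≤ S := by
    intro g hg
    show Matrix.ProjectiveSpecialLinearGroup.toPGL g • (Geom.Moebius.inf : Geom.Moebius.Line F) = _
    have h1 : g⁻¹ * QuotientGroup.mk' _ (CfsgLib.Classical.uElt (1 : F)) * g⁻¹⁻¹ ∈ (P₀ : Subgroup PS) :=
      (mem_normalizer_iff.1 (inv_mem hg) _).1 (by rw [hP₀]; exact ⟨_, ⟨1, rfl⟩, rfl⟩)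
    have h2 : Matrix.ProjectiveSpecialLinearGroup.toPGL _ • (Geom.Moebius.inf : Geom.Moebius.Line F) = _ := hle h1
    rw [inv_inv, map_mul, map_mul, map_inv, mul_smul, mul_smul, inv_smul_eq_iff, QuotientGroup.mk'_apply,
      Geom.Moebius.toPGL_uElt] at h2
    rcases Geom.Moebius.point_cases
        (Matrix.ProjectiveSpecialLinearGroup.toPGL g • (Geom.Moebius.inf : Geom.Moebius.Line F)) with e | ⟨x, e⟩
    · exact e
    · exfalso
      rw [e, Geom.Moebius.aff_smul_pt] at h2
      have := Geom.Moebius.pt_injective h2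
      simp at this
  rw [← hidx, ← le_antisymm hNS hSN]
  exact P₀.card_eq_index_normalizer

end psl

variable {G : Type u} [Group G] [Finite G]

theorem eq_top_of_sylow_odd {H : Type*} [Group H] [Finite H] (C : Subgroup H) (T : Sylow 2 H)
    (hT : (T : Subgroup H) ≤ C) (hodd : ∀ x : H, Odd (orderOf x) → x ∈ C) : C = ⊤ := by
  rw [← index_eq_one]
  by_contra hne
  obtain ⟨r, hr, hrd⟩ := Nat.exists_prime_and_dvd hne
  haveI := Fact.mk hr
  rcases eq_or_ne r 2 with rfl | hr2
  · exact T.not_dvd_index (hrd.trans (index_dvd_of_le hT))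
  · obtain ⟨R⟩ : Nonempty (Sylow r H) := inferInstance
    refine R.not_dvd_index (hrd.trans (index_dvd_of_le fun x hx => hodd x ?_))
    obtain ⟨k, hk⟩ := IsPGroup.iff_orderOf.1 R.2 ⟨x, hx⟩
    rw [Subgroup.orderOf_mk] at hk
    rw [hk]
    exact (hr.odd_of_ne_two hr2).pow

variable {P : Sylow 2 G} {B : Subgroup G} {v : G}

/-- A subgroup with only one involution is commutative. -/
theorem Std.comm_of_unique_invol (S : Std G) (D : InvData (P : Subgroup G) B v) {L : Subgroup G} {z : G}
    (hzL : z ∈ L) (hz : orderOf z = 2) (huniq : ∀ i ∈ L, orderOf i = 2 → i = z) :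
    ∀ a ∈ L, ∀ b ∈ L, a * b = b * a := by
  haveI : Fact (Nat.Prime 2) := ⟨Nat.prime_two⟩
  have hcen : ∀ l ∈ L, Commute l z := fun l hl => mul_inv_eq_iff_eq_mul.1
    (huniq _ (mul_mem (mul_mem hl hzL) (inv_mem hl)) (by rw [CfsgLib.Invol.orderOf_conj_eq, hz]))
  obtain ⟨T⟩ : Nonempty (Sylow 2 L) := inferInstance
  have hTT : ∀ s ∈ (T : Subgroup L), ∀ t ∈ (T : Subgroup L), Commute (s : G) t := by
    intro s hs t ht
    obtain ⟨Q, hQ⟩ := (T.2.map L.subtype).exists_le_sylow
    obtain ⟨g, hg⟩ := MulAction.exists_smul_eq G Q P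
    have hmem : ∀ w ∈ (T : Subgroup L), g * (w : G) * g⁻¹ ∈ (P : Subgroup G) := fun w hw => by
      rw [← hg, Sylow.coe_subgroup_smul]; exact ⟨w, hQ ⟨w, hw, rfl⟩, rfl⟩
    have hout : ∀ w ∈ (T : Subgroup L), g * (w : G) * g⁻¹ ∉ B → (w : G) = z := fun w hw hwB => by
      have := (D.outside _ (hmem w hw) hwB).1
      rw [CfsgLib.Invol.orderOf_conj_eq] at this
      exact huniq w w.2 this
    by_cases hsB : g * (s : G) * g⁻¹ ∈ B
    · by_cases htB : g * (t : G) * g⁻¹ ∈ B
      · have h1 : Commute (g * (s : G) * g⁻¹) (g * (t : G) * g⁻¹) := D.comm _ hsB _ htB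
        have h2 := h1.conj g⁻¹
        simpa [mul_assoc] using h2
      · rw [hout t ht htB]; exact hcen s s.2
    · rw [hout s hs hsB]; exact (hcen t t.2).symm
  have hTodd : ∀ t ∈ (T : Subgroup L), ∀ x : L, Odd (orderOf x) → Commute (x : G) t := by
    intro t ht x hx
    rw [← orderOf_coe] at hx
    by_cases ht1 : (t : G) = 1
    · rw [ht1]; exact Commute.one_right _
    obtain ⟨k, hk⟩ := IsPGroup.iff_orderOf.1 T.2 ⟨t, ht⟩
    rw [Subgroup.orderOf_mk, ← orderOf_coe] at hk
    obtain ⟨j, rfl⟩ : ∃ j, k = j + 1 := ⟨k - 1, by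
      rcases k with _ | k
      · exact absurd (orderOf_eq_one_iff.1 (hk.trans (pow_zero 2))) ht1
      · omega⟩
    have h2 : orderOf ((t : G) ^ 2 ^ j) = 2 := by
      rw [orderOf_pow_of_dvd (pow_ne_zero _ two_ne_zero) (hk ▸ pow_dvd_pow 2 (by omega)), hk,
        pow_succ, Nat.mul_div_cancel_left _ (pow_pos two_pos j)]
    have hzt : z ∈ zpowers (t : G) := huniq _ (pow_mem t.2 _) h2 ▸ pow_mem (mem_zpowers _) _
    exact S.hyp.commute_odd hz hzt ⟨_, hk⟩ hx (hcen _ x.2)
  have hcent : ∀ w : L, w ∈ (T : Subgroup L) ∨ Odd (orderOf w) → w ∈ Subgroup.center L := by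
    intro w hw
    rw [Subgroup.mem_center_iff]
    have key : centralizer ({w} : Set L) = ⊤ := by
      refine eq_top_of_sylow_odd _ T (fun t ht => mem_centralizer_singleton_iff.2 (Subtype.ext ?_))
        fun x hx => mem_centralizer_singleton_iff.2 (Subtype.ext ?_)
      · rcases hw with hw | hw
        · exact (hTT t ht w hw).eq
        · exact (hTodd t ht w hw).symm.eq
      · rcases hw with hw | hw
        · exact (hTodd w hw x hx).eq
        · rw [← orderOf_coe] at hw hx
          exact (S.hyp.odd_commute hz hx hw (hcen _ x.2) (hcen _ w.2)).eq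
    exact fun g => mem_centralizer_singleton_iff.1 (key ▸ mem_top g)
  have htop : Subgroup.center L = ⊤ :=
    eq_top_of_sylow_odd _ T (fun t ht => hcent t (Or.inl ht)) fun x hx => hcent x (Or.inr hx)
  intro a ha b hb
  have h1 : (⟨a, ha⟩ : L) ∈ Subgroup.center L := htop ▸ mem_top _
  exact (congrArg Subtype.val (Subgroup.mem_center_iff.1 h1 ⟨b, hb⟩)).symm

theorem inj_three {α : Type*} {a b c : α} (hab : a ≠ b) (hac : a ≠ c) (hbc : b ≠ c) :
    Function.Injective ![a, b, c] := by
  intro i j h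
  fin_cases i <;> fin_cases j <;>
    first
    | rfl
    | exact absurd h hab
    | exact absurd h hab.symm
    | exact absurd h hac
    | exact absurd h hac.symm
    | exact absurd h hbc
    | exact absurd h hbc.symm

/-- A sharply three-transitive action with commutative two-point stabilisers. -/
theorem pgl_of_action {α : Type*} [Fintype α] [MulAction G α] {q : ℕ} (hq : 3 < q)
    (hα : Fintype.card α = q + 1) (hG : Nat.card G = (q + 1) * q * (q - 1))
    (hfree : ∀ (g : G) (a b c : α), a ≠ b → a ≠ c → b ≠ c → g • a = a → g • b = b → g • c = c → g = 1)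
    (hab : ∀ a b : α, a ≠ b → ∀ g h : G, g • a = a → g • b = b → h • a = a → h • b = b → g * h = h * g) :
    ∃ (F : Type) (_ : Field F) (_ : Fintype F), 3 < Fintype.card F ∧
      Nonempty (G ≃* Matrix.ProjGenLinGroup (Fin 2) F) := by
  classical
  haveI := Fintype.ofFinite G
  have hfree' : ∀ (g : G) (x : Fin 3 ↪ α), (∀ i, g • x i = x i) → g = 1 := fun g x hx =>
    hfree g (x 0) (x 1) (x 2) (x.injective.ne (by decide)) (x.injective.ne (by decide))
      (x.injective.ne (by decide)) (hx 0) (hx 1) (hx 2)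
  have h3card : Fintype.card (Fin 3 ↪ α) = Fintype.card G := by
    rw [Fintype.card_embedding_eq, Fintype.card_fin, hα, ← Nat.card_eq_fintype_card, hG]
    simp [Nat.descFactorial]
    ring_nf
  have htrans : ∀ x y : Fin 3 ↪ α, ∃ g : G, ∀ i, g • x i = y i := by
    intro x y
    let f : G → (Fin 3 ↪ α) := fun g => x.trans ⟨fun a => g • a, MulAction.injective g⟩
    have hinj : Function.Injective f := fun g h e => inv_mul_eq_one.1 (hfree' (g⁻¹ * h) x fun i => by
      rw [mul_smul, inv_smul_eq_iff]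
      exact (DFunLike.congr_fun e i).symm)
    obtain ⟨g, hg⟩ := ((Fintype.bijective_iff_injective_and_card f).2 ⟨hinj, h3card.symm⟩).2 y
    exact ⟨g, fun i => DFunLike.congr_fun hg i⟩
  have hfaith : FaithfulSMul G α := by
    refine ⟨fun {g h} e => inv_mul_eq_one.1 ?_⟩
    obtain ⟨x⟩ : Nonempty (Fin 3 ↪ α) := Function.Embedding.nonempty_of_card_le (by simp; omega)
    exact hfree' (g⁻¹ * h) x fun i => by rw [mul_smul, ← e, inv_smul_smul]
  let φ : G →* Equiv.Perm α := MulAction.toPermHom G α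
  have hφ : Function.Injective φ := MulAction.toPerm_injective
  have h3 : MulAction.IsMultiplyPretransitive φ.range α 3 := by
    refine CfsgLib.Invol.pretransitive_three_of fun a b c a' b' c' h1 h2 h3 k1 k2 k3 => ?_
    obtain ⟨g, hg⟩ := htrans ⟨![a, b, c], inj_three h1 h2 h3⟩ ⟨![a', b', c'], inj_three k1 k2 k3⟩
    exact ⟨⟨φ g, g, rfl⟩, hg 0, hg 1, hg 2⟩
  have hsharp : ∀ x : Fin 3 ↪ α, MulAction.stabilizer φ.range x = ⊥ := by
    intro x
    rw [Subgroup.eq_bot_iff_forall]
    rintro ⟨_, g, rfl⟩ hg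
    exact Subtype.ext (by simp [hfree' g x fun i => DFunLike.congr_fun (MulAction.mem_stabilizer_iff.1 hg) i])
  obtain ⟨F, iF, iFF, hcard, ⟨e⟩⟩ :=
    CfsgLib.Perm.sharply_three_pgl_of_abelian φ.range h3 hsharp (by
      rintro a b hne ⟨_, g, rfl⟩ ⟨_, g', rfl⟩ ga gb g'a g'b
      have := hab a b hne g g' ga gb g'a g'b
      exact Subtype.ext (by simp only [Subgroup.coe_mul, ← map_mul, this])) (by omega)
  exact ⟨F, iF, iFF, by omega, ⟨(MonoidHom.ofInjective hφ).trans e⟩⟩

/-- A normal subgroup `PSL₂(q)` of index two. -/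
theorem Std.pgl_of_index_two (S : Std G) (D : InvData (P : Subgroup G) B v) (M : Subgroup G) [M.Normal]
    (hidx : M.index = 2) {F : Type} [Field F] [Fintype F] (hodd : Odd (Fintype.card F))
    (h5 : 5 ≤ Fintype.card F) (e : M ≃* Matrix.ProjectiveSpecialLinearGroup (Fin 2) F) :
    ∃ (F : Type) (_ : Field F) (_ : Fintype F), 3 < Fintype.card F ∧
      Nonempty (G ≃* Matrix.ProjGenLinGroup (Fin 2) F) := by
  classical
  obtain ⟨p, hcp⟩ := CharP.exists F
  haveI := hcp
  obtain ⟨n, hpr, hFn⟩ := FiniteField.card F p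
  haveI : Fact p.Prime := ⟨hpr⟩
  set q := Fintype.card F with hq
  have hp2 : p ≠ 2 := by
    rintro rfl
    rw [hFn] at hodd
    exact Nat.not_odd_iff_even.2 (even_two.pow_of_ne_zero n.ne_zero) hodd
  -- transport to `M`
  let tr : Sylow p M → Sylow p (Matrix.ProjectiveSpecialLinearGroup (Fin 2) F) :=
    fun R => R.mapSurjective (f := e.toMonoidHom) e.surjective
  have htr : ∀ R : Sylow p M, ∀ x ∈ (R : Subgroup M), e x ∈ (tr R : Subgroup _) := fun R x hx => ⟨x, hx, rfl⟩
  have hcardR : ∀ R : Sylow p M, Nat.card (R : Subgroup M) = q := fun R => by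
    rw [hFn, ← CfsgLib.ClassK.Push.card_sylow_psl hFn (tr R)]
    exact Nat.card_congr ((R : Subgroup M).equivMapOfInjective e.toMonoidHom e.injective).toEquiv
  have hcommR : ∀ R : Sylow p M, ∀ a ∈ (R : Subgroup M), ∀ b ∈ (R : Subgroup M), a * b = b * a :=
    fun R a ha b hb => e.injective (by
      rw [map_mul, map_mul]; exact psl_sylow_comm hFn (tr R) (htr R a ha) (htr R b hb))
  have hcountM : Nat.card (Sylow p M) = q + 1 := by
    obtain ⟨R₀⟩ : Nonempty (Sylow p M) := inferInstance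
    rw [hq, ← psl_sylow_count (F := F) hFn, R₀.card_eq_index_normalizer, (tr R₀).card_eq_index_normalizer]
    have : Subgroup.normalizer ((tr R₀ : Subgroup (Matrix.ProjectiveSpecialLinearGroup (Fin 2) F)) : Set _) =
        (Subgroup.normalizer ((R₀ : Subgroup M) : Set M)).map e.toMonoidHom :=
      (Subgroup.map_equiv_normalizer_eq (R₀ : Subgroup M) e).symm
    exact ((congrArg Subgroup.index this).trans (Subgroup.index_map_equiv _ e)).symm
  -- centralisers
  have hcent : ∀ (R : Sylow p M) (x g : M), x ∈ (R : Subgroup M) → x ≠ 1 → Commute g x → g ∈ (R : Subgroup M) := by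
    intro R x g hx hx1 hg
    obtain ⟨k, hk⟩ := R.2 ⟨x, hx⟩
    have hk' : x ^ p ^ k = 1 := congrArg Subtype.val hk
    have hCp : IsPGroup p (centralizer ({x} : Set M)) := fun c => ⟨1, Subtype.ext (e.injective (by
      show e ((c : M) ^ p ^ 1) = e 1
      rw [pow_one, map_pow, map_one]
      exact psl_cent_unipotent hp2 (x := e x) (fun h => hx1 (e.injective (by rw [h, map_one])))
        (by rw [← map_pow, hk', map_one]) ((show Commute (c : M) x from mem_centralizer_singleton_iff.1 c.2).map e.toMonoidHom)))⟩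
    rw [← R.3 hCp fun r hr => mem_centralizer_singleton_iff.2 (hcommR R r hr x hx)]
    exact mem_centralizer_singleton_iff.2 hg.eq
  have hTI : ∀ R R' : Sylow p M, R ≠ R' → ∀ x, x ∈ (R : Subgroup M) → x ∈ (R' : Subgroup M) → x = 1 := by
    intro R R' hne x hx hx'
    by_contra hx1
    exact hne (Sylow.ext (le_antisymm (fun r hr => hcent R' x r hx' hx1 (hcommR R r hr x hx))
      (fun r hr => hcent R x r hx hx1 (hcommR R' r hr x hx'))))
  -- the action
  let ψ : G →* MulAut M := MulAut.conjNormal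
  letI act : MulAction G (Sylow p M) := MulAction.compHom _ ψ
  have hM : ∀ (m : M) (R : Sylow p M), (m : G) • R = m • R := fun m R => by
    have h1 : ψ (m : G) = MulAut.conj m :=
      MulEquiv.ext fun w => Subtype.ext (by simp [ψ, MulAut.conjNormal_apply])
    show ψ (m : G) • R = MulAut.conj m • R
    rw [h1]
  have hmem : ∀ (g : G) (R : Sylow p M), ∀ x ∈ (R : Subgroup M), ψ g x ∈ ((g • R : Sylow p M) : Subgroup M) :=
    fun g R x hx => Subgroup.smul_mem_pointwise_smul x (ψ g) (R : Subgroup M) hx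
  have hψ : ∀ (g : G) (x : M), ((ψ g x : M) : G) = g * x * g⁻¹ := fun g x => MulAut.conjNormal_apply g x
  have hψact : ∀ (g : G) (x : M) (R : Sylow p M), g • R = R → (ψ g x : M) • R = g • (x • R) := fun g x R hR => by
    rw [← hM, ← hM, hψ, mul_smul, mul_smul, inv_smul_eq_iff.2 hR.symm]
  have hfix : ∀ (R : Sylow p M) (x : M), x ∈ (R : Subgroup M) → x • R = R := fun R x hx =>
    Sylow.smul_eq_iff_mem_normalizer.2 (le_normalizer hx)
  have hreg : ∀ R R' : Sylow p M, R' ≠ R → ∀ x ∈ (R : Subgroup M), x • R' = R' → x = 1 := by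
    intro R R' hne x hx hxR'
    have hxN : x ∈ Subgroup.normalizer ((R' : Subgroup M) : Set M) := Sylow.smul_eq_iff_mem_normalizer.1 hxR'
    obtain ⟨k, hk⟩ := R.2 ⟨x, hx⟩
    have hpg : IsPGroup p (zpowers x) := by
      obtain ⟨j, -, hj⟩ := (Nat.dvd_prime_pow hpr).1 (orderOf_dvd_of_pow_eq_one (congrArg Subtype.val hk : x ^ p ^ k = 1))
      exact IsPGroup.of_card (n := j) (by rw [Nat.card_zpowers, hj])
    have hle := hpg.to_sup_of_normal_right' R'.2 (zpowers_le.2 hxN)
    exact hTI R R' hne.symm x hx (R'.3 hle le_sup_right ▸ mem_sup_left (mem_zpowers x))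
  haveI := Fintype.ofFinite (Sylow p M)
  have hbij : ∀ a b c : Sylow p M, b ≠ a → c ≠ a → ∃! x : M, x ∈ (a : Subgroup M) ∧ x • b = c := by
    intro a b c hba hca
    let f : ↥(a : Subgroup M) → {R : Sylow p M // R ≠ a} := fun x =>
      ⟨(x : M) • b, fun h => hba (MulAction.injective (x : M) (h.trans (hfix a x x.2).symm))⟩
    have hinj : Function.Injective f := fun x y h => Subtype.ext (inv_mul_eq_one.1 (hreg a b hba _
      (mul_mem (inv_mem y.2) x.2) (by
        rw [mul_smul, inv_smul_eq_iff]; exact congrArg Subtype.val h))).symm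
    have hcard : Nat.card (a : Subgroup M) = Nat.card {R : Sylow p M // R ≠ a} := by
      rw [hcardR, Nat.card_eq_fintype_card (α := {R : Sylow p M // R ≠ a}), Fintype.card_subtype_compl,
        Fintype.card_subtype_eq, ← Nat.card_eq_fintype_card, hcountM, Nat.add_sub_cancel]
    obtain ⟨x, hx⟩ := ((Nat.bijective_iff_injective_and_card f).2 ⟨hinj, hcard⟩).2 ⟨c, hca⟩
    refine ⟨x, ⟨x.2, congrArg Subtype.val hx⟩, fun y hy => ?_⟩
    exact congrArg Subtype.val (hinj (a₁ := ⟨y, hy.1⟩) (Subtype.ext (hy.2.trans (congrArg Subtype.val hx).symm)))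
  have hfreeM : ∀ (m : M) (a b c : Sylow p M), a ≠ b → a ≠ c → b ≠ c →
      m • a = a → m • b = b → m • c = c → m = 1 := by
    intro m a b c hab hac hbc ma mb mc
    obtain ⟨x, ⟨hx, hxc⟩, hu⟩ := hbij a b c hab.symm hac.symm
    have hx' : m * x * m⁻¹ ∈ (a : Subgroup M) :=
      (mem_normalizer_iff.1 (Sylow.smul_eq_iff_mem_normalizer.1 ma) x).1 hx
    have e1 : m * x * m⁻¹ = x := hu _ ⟨hx', by rw [mul_smul, mul_smul, inv_smul_eq_iff.2 mb.symm, hxc, mc]⟩
    have hx1 : x ≠ 1 := fun h => hbc (by rw [← hxc, h, one_smul])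
    exact hreg a b hab.symm m (hcent a x m hx hx1 (mul_inv_eq_iff_eq_mul.1 e1)) mb
  have hoddp : ∀ (R : Sylow p M) (x : M), x ∈ (R : Subgroup M) → Odd (orderOf (x : G)) := fun R x hx => by
    obtain ⟨k, hk⟩ := IsPGroup.iff_orderOf.1 R.2 ⟨x, hx⟩
    rw [Subgroup.orderOf_mk] at hk
    rw [orderOf_coe, hk]
    exact (hpr.odd_of_ne_two hp2).pow
  have hfree : ∀ (g : G) (a b c : Sylow p M), a ≠ b → a ≠ c → b ≠ c →
      g • a = a → g • b = b → g • c = c → g = 1 := by
    intro g a b c hab hac hbc ga gb gc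
    have hgg : g * g ∈ M := (mul_mem_iff_of_index_two hidx).2 Iff.rfl
    have h2 : g * g = 1 := congrArg Subtype.val (hfreeM ⟨g * g, hgg⟩ a b c hab hac hbc
      (by rw [← hM, mul_smul, ga, ga]) (by rw [← hM, mul_smul, gb, gb]) (by rw [← hM, mul_smul, gc, gc]))
    by_contra hg1
    have hg : orderOf g = 2 := CfsgLib.Invol.invol_of_mul_self h2 hg1
    have key : ∀ a b : Sylow p M, b ≠ a → c ≠ a → g • a = a → g • b = b → g • c = c →
        ∃ x : M, x ∈ (a : Subgroup M) ∧ x • b = c ∧ Commute (x : G) g := by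
      intro a b hba hca ga gb gc
      obtain ⟨x, ⟨hx, hxc⟩, hu⟩ := hbij a b c hba hca
      have e1 : ψ g x = x := hu _ ⟨by have := hmem g a x hx; rwa [ga] at this,
        by rw [hψact g x b gb, hxc, gc]⟩
      refine ⟨x, hx, hxc, ?_⟩
      have e2 := congrArg Subtype.val e1
      rw [hψ] at e2
      exact (show Commute g (x : G) from mul_inv_eq_iff_eq_mul.1 e2).symm
    obtain ⟨x, hx, hxc, hxg⟩ := key a b hab.symm hac.symm ga gb gc
    obtain ⟨y, hy, hyc, hyg⟩ := key b a hab hbc.symm gb ga gc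
    have hxy : Commute y x := Subtype.ext
      (S.hyp.odd_commute hg (hoddp b y hy) (hoddp a x hx) hyg hxg).eq
    have hx1 : x ≠ 1 := fun h => hbc (by rw [← hxc, h, one_smul])
    have hy1 : y = 1 := hTI a b hab y (hcent a x y hx hx1 hxy) hy
    exact hac (by rw [← hyc, hy1, one_smul])
  -- cardinalities
  have hα : Fintype.card (Sylow p M) = q + 1 := by rw [← Nat.card_eq_fintype_card, hcountM]
  have hG : Nat.card G = (q + 1) * q * (q - 1) := by
    have h1 := CfsgLib.Classical.card_psl_two_mul (F := F)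
    have hg2 : Nat.gcd 2 (q - 1) = 2 := by
      refine Nat.gcd_eq_left ?_
      obtain ⟨j, hj⟩ := hodd
      exact ⟨j, by omega⟩
    rw [← hq, hg2] at h1
    rw [← M.card_mul_index, hidx, Nat.card_congr e.toEquiv, mul_comm, h1,
      show q ^ 2 - 1 = (q + 1) * (q - 1) by simpa using Nat.sq_sub_sq q 1]
    ring
  -- two-point stabilisers
  refine pgl_of_action (q := q) (by omega) hα hG hfree ?_
  intro a b hab g h ga gb ha hb
  set L := MulAction.stabilizer G a ⊓ MulAction.stabilizer G b with hL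
  have hLmem : ∀ l : G, l ∈ L ↔ l • a = a ∧ l • b = b := fun l => by
    rw [hL, Subgroup.mem_inf, MulAction.mem_stabilizer_iff, MulAction.mem_stabilizer_iff]
  obtain ⟨x₀, hx₀, hx₀1⟩ : ∃ x₀ ∈ (a : Subgroup M), x₀ ≠ 1 :=
    (Subgroup.bot_or_exists_ne_one _).resolve_left fun h0 => by
      have := hcardR a
      rw [h0, Subgroup.card_bot] at this
      omega
  have hinv : ∀ z ∈ L, orderOf z = 2 → ∀ x ∈ (a : Subgroup M), ψ z x = x⁻¹ := by
    intro z hzL hz x hx
    obtain ⟨za, zb⟩ := (hLmem z).1 hzL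
    have hz2 : ∀ w : M, ψ z (ψ z w) = w := fun w => by
      rw [← MulAut.mul_apply, ← map_mul, CfsgLib.Invol.invol_mul_self hz, map_one]; rfl
    have hx' : ψ z x ∈ (a : Subgroup M) := by have := hmem z a x hx; rwa [za] at this
    set w := x * ψ z x with hw
    have hwz : ψ z w = w := by rw [hw, map_mul, hz2, hcommR a _ hx' _ hx]
    by_cases hwb : w • b = b
    · exact eq_inv_of_mul_eq_one_right (hreg a b hab.symm w (mul_mem hx hx') hwb)
    · exfalso
      have hwa : w • b ≠ a := fun h => hab.symm (MulAction.injective w (h.trans (hfix a w (mul_mem hx hx')).symm))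
      refine CfsgLib.Invol.invol_ne_one hz (hfree z a b (w • b) hab hwa.symm (Ne.symm hwb) za zb ?_)
      rw [← hψact z w b zb, hwz]
  have huniq : ∀ z ∈ L, ∀ z' ∈ L, orderOf z = 2 → orderOf z' = 2 → z = z' := by
    intro z hz z' hz' hz2 hz'2
    have hd : z * z' ∈ L := mul_mem hz hz'
    obtain ⟨da, db⟩ := (hLmem _).1 hd
    have hne : x₀ • b ≠ b := fun h => hx₀1 (hreg a b hab.symm x₀ hx₀ h)
    have hne' : x₀ • b ≠ a := fun h => hab.symm (MulAction.injective x₀ (h.trans (hfix a x₀ hx₀).symm))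
    have h1 : z * z' = 1 := hfree _ a b (x₀ • b) hab hne'.symm hne.symm da db (by
      rw [← hψact _ x₀ b db, map_mul, MulAut.mul_apply, hinv z' hz' hz'2 x₀ hx₀, map_inv,
        hinv z hz hz2 x₀ hx₀, inv_inv])
    rw [mul_eq_one_iff_eq_inv.1 h1, CfsgLib.Invol.invol_inv hz'2]
  obtain ⟨z, hzL, hz⟩ : ∃ z ∈ L, orderOf z = 2 := by
    haveI : Fact (Nat.Prime 2) := ⟨Nat.prime_two⟩
    haveI := Fintype.ofFinite G
    let f : L → {c : Sylow p M // c ≠ a ∧ c ≠ b} := fun l => ⟨(l : G) • (x₀ • b), by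
      obtain ⟨la, lb⟩ := (hLmem l).1 l.2
      have hne : x₀ • b ≠ b := fun h => hx₀1 (hreg a b hab.symm x₀ hx₀ h)
      have hne' : x₀ • b ≠ a := fun h => hab.symm (MulAction.injective x₀ (h.trans (hfix a x₀ hx₀).symm))
      exact ⟨fun h => hne' (MulAction.injective (l : G) (h.trans la.symm)),
        fun h => hne (MulAction.injective (l : G) (h.trans lb.symm))⟩⟩
    have hf : Function.Bijective f := by
      have hne : x₀ • b ≠ b := fun h => hx₀1 (hreg a b hab.symm x₀ hx₀ h)
      have hne' : x₀ • b ≠ a := fun h => hab.symm (MulAction.injective x₀ (h.trans (hfix a x₀ hx₀).symm))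
      refine ⟨fun l l' h => Subtype.ext (inv_mul_eq_one.1 ?_), fun c => ?_⟩
      · obtain ⟨la, lb⟩ := (hLmem _).1 (mul_mem (inv_mem l.2) l'.2)
        exact hfree _ a b (x₀ • b) hab hne'.symm hne.symm la lb (by
          rw [mul_smul, inv_smul_eq_iff]; exact (congrArg Subtype.val h).symm)
      · let T := {t : Fin 3 → Sylow p M // Function.Injective t}
        let k : G → T := fun l => ⟨fun i => l • ![a, b, x₀ • b] i, fun i j hij => by
          have h0 := MulAction.injective l hij
          fin_cases i <;> fin_cases j <;>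
            first
            | rfl
            | exact absurd h0 hab
            | exact absurd h0 hab.symm
            | exact absurd h0 hne'.symm
            | exact absurd h0 hne'
            | exact absurd h0 hne.symm
            | exact absurd h0 hne⟩
        have hkinj : Function.Injective k := fun l l' h => by
          have h' : ∀ i, l • ![a, b, x₀ • b] i = l' • ![a, b, x₀ • b] i := fun i =>
            congrFun (congrArg Subtype.val h) i
          refine inv_mul_eq_one.1 (hfree (l⁻¹ * l') a b (x₀ • b) hab hne'.symm hne.symm ?_ ?_ ?_)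
          · rw [mul_smul, inv_smul_eq_iff]; exact (h' 0).symm
          · rw [mul_smul, inv_smul_eq_iff]; exact (h' 1).symm
          · rw [mul_smul, inv_smul_eq_iff]; exact (h' 2).symm
        have hcard : Fintype.card G = Fintype.card T := by
          rw [Fintype.card_congr (Equiv.subtypeInjectiveEquivEmbedding (Fin 3) (Sylow p M)),
            Fintype.card_embedding_eq, Fintype.card_fin, hα, ← Nat.card_eq_fintype_card, hG]
          simp [Nat.descFactorial]
          ring_nf
        obtain ⟨l, hl⟩ := ((Fintype.bijective_iff_injective_and_card k).2 ⟨hkinj, hcard⟩).2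
          ⟨![a, b, c.1], fun i j hij => by
            fin_cases i <;> fin_cases j <;>
              first
              | rfl
              | exact absurd hij hab
              | exact absurd hij hab.symm
              | exact absurd hij c.2.1
              | exact absurd hij c.2.1.symm
              | exact absurd hij c.2.2
              | exact absurd hij c.2.2.symm⟩
        have hl' : ∀ i, l • ![a, b, x₀ • b] i = ![a, b, c.1] i := fun i => congrFun (congrArg Subtype.val hl) i
        exact ⟨⟨l, (hLmem l).2 ⟨hl' 0, hl' 1⟩⟩, Subtype.ext (hl' 2)⟩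
    have hcardL : Nat.card L = q - 1 := by
      rw [Nat.card_congr (Equiv.ofBijective f hf), Nat.card_eq_fintype_card, Fintype.card_subtype]
      have : (Finset.univ.filter fun c : Sylow p M => c ≠ a ∧ c ≠ b) = Finset.univ \ {a, b} := by
        ext c; simp
      rw [this, Finset.card_univ_diff, hα, Finset.card_pair hab]
      omega
    obtain ⟨z, hz⟩ := exists_prime_orderOf_dvd_card' (G := L) 2 (by
      rw [hcardL]; obtain ⟨j, hj⟩ := hodd; exact ⟨j, by omega⟩)
    exact ⟨z, z.2, by rw [orderOf_coe]; exact hz⟩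
  exact S.comm_of_unique_invol D hzL hz (fun i hi hi2 => huniq i hi z hzL hi2 hz) g ((hLmem g).2 ⟨ga, gb⟩)
    h ((hLmem h).2 ⟨ha, hb⟩)

end CfsgLib.Recog.NormCyclic
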