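import Cfsg.Agent.Lib.Recog.NormCyclic.Abelian
import Cfsg.Agent.Lib.Transfer.Focal

/-!
Generalized dihedral Sylow 2-subgroups over a subgroup with two squares do not occur.
-/

set_option autoImplicit false
set_option linter.unusedSectionVars false

namespace CfsgLib.Recog.NormCyclic

open Subgroup
open scoped commutatorElement

universe u

variable {G : Type u} [Group G] [Finite G] {P : Sylow 2 G} {B : Subgroup G} {v : G}

namespace InvData

theorem commute_invol_B (D : InvData (P : Subgroup G) B v) {i p : G} (hi : i ∈ B) (hi2 : orderOf i = 2)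
    (hp : p ∈ (P : Subgroup G)) : Commute p i := by
  by_cases hpB : p ∈ B
  · exact D.comm p hpB i hi
  · have e := (D.outside p hp hpB).2 i hi
    rw [CfsgLib.Invol.invol_inv hi2] at e
    exact mul_inv_eq_iff_eq_mul.1 e

end InvData

/-- All involutions of `B` have the same centralizer. -/
theorem Std.gen_cent_eq (S : Std G) (D : InvData (P : Subgroup G) B v) {y : G} (hy : y ∈ B)
    (hy4 : orderOf y = 4) {i j : G} (hiB : i ∈ B) (hi : orderOf i = 2) (hjB : j ∈ B) (hj : orderOf j = 2) :
    centralizer ({i} : Set G) = centralizer ({j} : Set G) := by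
  haveI : Fact (Nat.Prime 2) := ⟨Nat.prime_two⟩
  by_cases hA : ∃ k x : G, k ∈ B ∧ orderOf k = 2 ∧ Odd (orderOf x) ∧ x ≠ 1 ∧ Commute x k
  · obtain ⟨k, x, hkB, hk, hx, hx1, hxk⟩ := hA
    have hmem : ∀ p ∈ (P : Subgroup G), p * x * p⁻¹ ∈ zpowers x := fun p hp =>
      S.hyp.odd_conj_mem hk hx hxk (D.commute_invol_B hkB hk hp)
    have hu : orderOf (y * y) = 2 := orderOf_sq_of_four hy4
    obtain ⟨a, ha⟩ := hmem v⁻¹ (inv_mem D.vP)
    obtain ⟨b, hb⟩ := hmem y (D.le hy)
    change x ^ a = v⁻¹ * x * v⁻¹⁻¹ at ha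
    change x ^ b = y * x * y⁻¹ at hb
    rw [inv_inv] at ha
    have e : y⁻¹ * x * y = y * x * y⁻¹ := by
      have hv : v * y * v⁻¹ = y⁻¹ := (D.outside v D.vP D.vB).2 y hy
      calc y⁻¹ * x * y = (v * y * v⁻¹) * x * (v * y * v⁻¹)⁻¹ := by rw [hv, inv_inv]
        _ = v * (y * (v⁻¹ * x * v) * y⁻¹) * v⁻¹ := by group
        _ = v * ((y * x * y⁻¹) ^ a) * v⁻¹ := by rw [← ha, conj_zpow]
        _ = (v * (x ^ a) * v⁻¹) ^ b := by rw [← hb, ← zpow_mul, mul_comm, zpow_mul, conj_zpow]
        _ = y * x * y⁻¹ := by rw [ha, ← hb]; congr 1; group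
    have hxu : Commute x (y * y) := by
      show x * (y * y) = y * y * x
      calc x * (y * y) = y * (y⁻¹ * x * y) * y := by group
        _ = y * y * x := by rw [e]; group
    have hxy : Commute x y := S.hyp.commute_odd hu (root_mem rfl) ⟨2, hy4⟩ hx hxu
    have hall : ∀ l ∈ B, orderOf l = 2 → centralizer ({l} : Set G) = centralizer ({k} : Set G) := by
      intro l hl hl2
      refine S.hyp.cent_eq hl2 hk hx hx1 ?_ hxk
      have hly : Commute l y := D.comm l hl y hy
      have hsq : l * y * (l * y) = y * y := by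
        rw [mul_assoc, ← mul_assoc y l, ← hly.eq, mul_assoc l y, ← mul_assoc,
          CfsgLib.Invol.invol_mul_self hl2, one_mul]
      have h1 : Commute x (l * y) :=
        S.hyp.commute_odd hu (root_mem hsq) ⟨2, root_order hu hsq⟩ hx hxu
      have h2 := h1.mul_right hxy.inv_right
      rwa [mul_inv_cancel_right] at h2
    rw [hall i hiB hi, hall j hjB hj]
  · push Not at hA
    have key : ∀ {i j : G}, i ∈ B → j ∈ B → orderOf i = 2 → orderOf j = 2 →
        centralizer ({i} : Set G) ≤ centralizer ({j} : Set G) := by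
      intro i j hiB hjB hi hj g hg
      obtain ⟨a, hat, hao, p, hp, rfl⟩ := cent_decomp S.hyp hi P
        (fun p hp => (D.commute_invol_B hiB hi hp).eq) (mem_centralizer_singleton_iff.1 hg)
      have ha1 : a = 1 := by
        by_contra ha1
        exact hA i a hiB hi hao ha1 hat
      rw [ha1, one_mul]
      exact mem_centralizer_singleton_iff.2 (D.commute_invol_B hjB hj hp).eq
    exact le_antisymm (key hiB hjB hi hj) (key hjB hiB hj hi)

/-- No involution outside `B` is conjugate into `B`. -/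
theorem Std.gen_not_conj (S : Std G) (D : InvData (P : Subgroup G) B v) (hT : TwoSquares B)
    {w i g : G} (hwP : w ∈ (P : Subgroup G)) (hwB : w ∉ B) (hiB : i ∈ B) (hgi : g * i * g⁻¹ = w) : False := by
  haveI : Fact (Nat.Prime 2) := ⟨Nat.prime_two⟩
  obtain ⟨y, hy, z, hz, hy4, hz4, hne⟩ := hT
  have hu : orderOf (y * y) = 2 := orderOf_sq_of_four hy4
  have hs : orderOf (z * z) = 2 := orderOf_sq_of_four hz4
  have hw2 := (D.outside w hwP hwB).1
  have hi : orderOf i = 2 := by rw [← hgi, CfsgLib.Invol.orderOf_conj_eq] at hw2; exact hw2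
  have hC := fun {a b : G} ha ha2 hb hb2 => S.gen_cent_eq D hy hy4 (i := a) (j := b) ha ha2 hb hb2
  have hinv : ∀ p ∈ (P : Subgroup G), p ∉ B → ¬ Commute p y := fun p hp hpB hc => by
    have e := (D.outside p hp hpB).2 y hy
    rw [hc.eq, mul_inv_cancel_right] at e
    exact root_ne_inv hu rfl e
  set q := g * (y * y) * g⁻¹ with hq
  have hq2 : orderOf q = 2 := by rw [hq, CfsgLib.Invol.orderOf_conj_eq, hu]
  have hcentw : ∀ a : G, Commute a w ↔ Commute a q := fun a => by
    have key : ∀ b c : G, centralizer ({b} : Set G) = centralizer ({c} : Set G) →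
        Commute a (g * b * g⁻¹) → Commute a (g * c * g⁻¹) := by
      intro b c e h1
      have h2 := h1.conj g⁻¹
      rw [inv_inv, show g⁻¹ * (g * b * g⁻¹) * g = b by group] at h2
      have h3 : g⁻¹ * a * g ∈ centralizer ({b} : Set G) := mem_centralizer_singleton_iff.2 h2.eq
      rw [e] at h3
      have h4 := (show Commute (g⁻¹ * a * g) c from mem_centralizer_singleton_iff.1 h3).conj g
      rwa [show g * (g⁻¹ * a * g) * g⁻¹ = a by group] at h4
    have e := hC hiB hi (mul_mem hy hy) hu
    exact ⟨fun h1 => key i _ e (hgi.symm ▸ h1), fun h1 => hgi ▸ key _ i e.symm h1⟩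
  have huq : Commute (y * y) q := (hcentw _).1 (D.commute_invol_B (mul_mem hy hy) hu hwP).symm
  set C := centralizer ({y * y} : Set G)
  have hPC : (P : Subgroup G) ≤ C := fun p hp =>
    mem_centralizer_singleton_iff.2 (D.commute_invol_B (mul_mem hy hy) hu hp).eq
  obtain ⟨c, hc⟩ := invol_conj_into (P.subtype hPC)
    (x := (⟨q, mem_centralizer_singleton_iff.2 huq.symm.eq⟩ : C)) (by rw [Subgroup.orderOf_mk]; exact hq2)
  have hc' : (c : G) * q * (c : G)⁻¹ ∈ (P : Subgroup G) := hc
  have hcu : Commute (c : G) (y * y) := mem_centralizer_singleton_iff.1 c.2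
  set q' := (c : G) * q * (c : G)⁻¹ with hq'
  have hq'2 : orderOf q' = 2 := by rw [hq', CfsgLib.Invol.orderOf_conj_eq, hq2]
  by_cases hqB : q' ∈ B
  · -- `C(w) = C(u)`
    have e := hC hqB hq'2 (mul_mem hy hy) hu
    have hwq : Commute w q := (hcentw w).1 (Commute.refl w)
    have hqy : Commute y q := by
      have h1 : (c : G) * y * (c : G)⁻¹ ∈ centralizer ({y * y} : Set G) := by
        refine mem_centralizer_singleton_iff.2 ?_
        have h0 := ((Commute.refl y).mul_right (Commute.refl y)).conj (c : G)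
        rw [hcu.eq, mul_inv_cancel_right] at h0
        exact h0.eq
      rw [← e] at h1
      have h2 := (show Commute ((c : G) * y * (c : G)⁻¹) q' from mem_centralizer_singleton_iff.1 h1).conj (c : G)⁻¹
      rw [hq', inv_inv, show (c : G)⁻¹ * ((c : G) * y * (c : G)⁻¹) * c = y by group,
        show (c : G)⁻¹ * ((c : G) * q * (c : G)⁻¹) * c = q by group] at h2
      exact h2
    exact hinv w hwP hwB ((hcentw y).2 hqy).symm
  · -- `q'` has a root
    set r := (c : G) * (g * y * g⁻¹) * (c : G)⁻¹ with hr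
    have hrq : r * r = q' := by rw [hr, conj_mul, conj_mul]
    have hnr : ∀ t ∈ B, orderOf (t * t) = 2 → (t * t) * r * (t * t) = r⁻¹ := by
      intro t ht ht2
      have hcomm : Commute (t * t) q' := (D.commute_invol_B (mul_mem ht ht) ht2 hc').symm
      have hne' : t * t ≠ q' := fun e => hqB (e ▸ mul_mem ht ht)
      refine ((S.hyp.root_pair ht2 rfl hq'2 hrq hcomm hne').resolve_left ?_).1
      intro h1
      have h2 : Commute t q' := hrq ▸ h1.mul_right h1
      have e := (D.outside q' hc' hqB).2 t ht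
      rw [← h2.eq, mul_inv_cancel_right] at e
      exact root_ne_inv ht2 rfl e
    have hyz : Commute y z := D.comm y hy z hz
    have e3 : y * z * (y * z) = y * y * (z * z) := by
      rw [mul_assoc y z, ← mul_assoc z y, ← hyz.eq, mul_assoc y z z, mul_assoc y y]
    have h3 : orderOf (y * z * (y * z)) = 2 := by
      rw [e3]
      refine CfsgLib.Invol.invol_of_mul_self ?_ fun e => hne ?_
      · have hc : Commute (z * z) (y * y) := D.comm _ (mul_mem hz hz) _ (mul_mem hy hy)
        rw [hc.mul_mul_mul_comm, CfsgLib.Invol.invol_mul_self hu, CfsgLib.Invol.invol_mul_self hs, one_mul]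
      · rw [mul_eq_one_iff_eq_inv.1 e, CfsgLib.Invol.invol_inv hs]
    have e1 := hnr y hy hu
    have e2 := hnr z hz hs
    have e4 := hnr (y * z) (mul_mem hy hz) h3
    have hyi := CfsgLib.Invol.invol_inv hu
    have hzi := CfsgLib.Invol.invol_inv hs
    have hc : Commute (y * y) (z * z) := D.comm _ (mul_mem hy hy) _ (mul_mem hz hz)
    have e5 : (y * z) * (y * z) * r * ((y * z) * (y * z)) = r := by
      rw [e3]
      calc y * y * (z * z) * r * (y * y * (z * z)) = y * y * (z * z * r * (z * z)) * (y * y) := by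
            nth_rw 2 [hc.eq]; group
        _ = y * y * r⁻¹ * (y * y) := by rw [e2]
        _ = ((y * y)⁻¹ * r * (y * y)⁻¹)⁻¹ := by simp only [mul_inv_rev, inv_inv, mul_assoc]
        _ = r := by rw [hyi, e1, inv_inv]
    exact root_ne_inv hq'2 hrq (e5.symm.trans e4)

/-- There is no generalized dihedral Sylow 2-subgroup with two squares. -/
theorem Std.no_gen_dihedral (S : Std G) (D : InvData (P : Subgroup G) B v) (hT : TwoSquares B) : False := by
  haveI : Fact (Nat.Prime 2) := ⟨Nat.prime_two⟩
  set H := (P : Subgroup G) with hH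
  have hfoc : H.focalSubgroup ≤ B := by
    rw [focalSubgroup_def, closure_le]
    rintro _ ⟨hmem, x, hx, g, rfl⟩
    rw [SetLike.mem_coe]
    have hy : g * x⁻¹ * g⁻¹ ∈ H := by
      have := mul_mem (inv_mem hx) hmem
      simpa [commutatorElement_def, mul_assoc] using this
    rw [show ⁅x, g⁆ = x * (g * x⁻¹ * g⁻¹) by rw [commutatorElement_def]; group]
    by_cases hxB : x ∈ B
    · refine mul_mem hxB ?_
      by_contra hgB
      exact S.gen_not_conj D hT hy hgB (inv_mem hxB) rfl
    · refine D.mul_mem_of_out hx hxB hy fun hgB => ?_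
      refine S.gen_not_conj D hT (inv_mem hx) (fun h' => hxB (inv_mem_iff.1 h')) hgB (g := g⁻¹) ?_
      group
  have hcop : H.index.Coprime (Nat.card (H ⧸ H.focalSubgroupOf)) := by
    obtain ⟨n, hn⟩ := IsPGroup.iff_card.1 P.2
    refine Nat.Coprime.coprime_dvd_right (card_quotient_dvd_card _) ?_
    rw [hn]
    exact Nat.Coprime.pow_right n ((Nat.prime_two.coprime_iff_not_dvd.2 P.not_dvd_index).symm)
  obtain ⟨-, hker, hsup⟩ := CfsgLib.Transfer.commutator_inf_eq_focal_of_coprime  H hcop
  set K := H.transferFocal.ker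
  have hcK : commutator G ≤ K := by
    open scoped IsMulCommutative in
    exact Abelianization.commutator_subset_ker H.transferFocal
  set M := K ⊔ B with hM
  haveI hMn : M.Normal := ⟨fun m hm g => by
    have h1 : g * m * g⁻¹ * m⁻¹ ∈ M := le_sup_left (a := K) (b := B) (hcK (by
      rw [← commutatorElement_def]; exact commutator_mem_commutator (mem_top _) (mem_top _)))
    simpa using mul_mem h1 hm⟩
  have hinf : M ⊓ H = B := by
    refine le_antisymm ?_ (le_inf le_sup_right D.le)
    intro p hp'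
    obtain ⟨hp, hpH⟩ := Subgroup.mem_inf.1 hp'
    obtain ⟨k, hk, b, hb, rfl⟩ := mem_sup_of_normal_left.1 hp
    have hkH : k ∈ H := by simpa using mul_mem hpH (inv_mem (D.le hb))
    exact mul_mem (hfoc (hker ▸ ⟨hk, hkH⟩)) hb
  have hidx : M.index = 2 := by
    have h1 : M.relIndex H = M.relIndex (M ⊔ H) := (relIndex_sup_left H M).symm
    have h2 : M ⊔ H = ⊤ := top_le_iff.1 (hsup ▸ sup_le_sup_right le_sup_left H)
    rw [h2, relIndex_top_right] at h1
    rw [← h1, ← inf_relIndex_right, hinf, D.relIndex_eq]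
  have hBM : B ≤ M := le_sup_right
  have hBP : IsPGroup 2 ↥(B.subgroupOf M) :=
    (P.2.to_le D.le).comap_of_injective M.subtype M.subtype_injective
  have hodd : ¬ 2 ∣ (B.subgroupOf M).index := by
    show ¬ 2 ∣ B.relIndex M
    have e := (relIndex_mul_index hBM).trans (relIndex_mul_index D.le).symm
    rw [hidx, D.relIndex_eq, mul_comm] at e
    rw [Nat.eq_of_mul_eq_mul_left two_pos e]
    exact P.not_dvd_index
  obtain ⟨hel, -⟩ := (S.of_index_two M hidx).psl_of_abelian (hBP.toSylow hodd) fun a ha b hb =>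
    Subtype.ext (D.comm _ ha _ hb)
  obtain ⟨y, hy, -, -, hy4, -, -⟩ := hT
  have h1 : (⟨y, hBM hy⟩ : M) * ⟨y, hBM hy⟩ = 1 := hel _ hy
  have h2 : orderOf y ∣ 2 := orderOf_dvd_of_pow_eq_one (by rw [pow_two]; exact congrArg Subtype.val h1)
  rw [hy4] at h2
  norm_num at h2

end CfsgLib.Recog.NormCyclic
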