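import Cfsg.Agent.Lib.Recog.NormCyclic.Basic

/-!
Elements of order four: roots of distinct commuting involutions in a 2-group commute.
-/

set_option autoImplicit false
set_option linter.unusedSectionVars false

namespace CfsgLib.Recog.NormCyclic

open Subgroup

variable {G : Type*} [Group G]

theorem root_order {y u : G} (hu : orderOf u = 2) (hy : y * y = u) : orderOf y = 4 := by
  rw [show (4 : ℕ) = 2 ^ (1 + 1) by norm_num]
  refine orderOf_eq_prime_pow ?_ ?_
  · rw [pow_one, pow_two, hy]; exact fun e => by rw [e, orderOf_one] at hu; omega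
  · rw [show (2 : ℕ) ^ (1 + 1) = 2 * 2 by norm_num, pow_mul, pow_two, pow_two, hy]
    rw [← pow_two, ← hu, pow_orderOf_eq_one]

theorem root_ne_inv {y u : G} (hu : orderOf u = 2) (hy : y * y = u) : y ≠ y⁻¹ := fun e => by
  have h1 : y * y = 1 := by nth_rw 2 [e]; exact mul_inv_cancel y
  rw [hy] at h1
  rw [h1, orderOf_one] at hu
  omega

theorem root_mem {y u : G} (hy : y * y = u) : u ∈ zpowers y := hy ▸ mul_mem (mem_zpowers y) (mem_zpowers y)

theorem invol_eq_inv {u : G} (hu : orderOf u = 2) : u⁻¹ = u :=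
  inv_eq_of_mul_eq_one_left (by rw [← pow_two, ← hu, pow_orderOf_eq_one])

/-- An element of order a power of two which is not the identity has a root-like power. -/
theorem exists_root_pow {d : G} {n : ℕ} (hn : orderOf d = 2 ^ (n + 2)) :
    orderOf (d ^ 2 ^ (n + 1)) = 2 ∧ d ^ 2 ^ n * d ^ 2 ^ n = d ^ 2 ^ (n + 1) := by
  refine ⟨?_, by rw [← pow_add, pow_succ, mul_two]⟩
  rw [orderOf_pow_of_dvd (pow_ne_zero _ two_ne_zero) (hn ▸ pow_dvd_pow 2 (by omega)), hn,
    Nat.pow_div (by omega) two_pos, show n + 2 - (n + 1) = 1 by omega, pow_one]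

namespace Hyp

variable (h : Hyp G) [Finite G]
include h

theorem root_conj {y u c : G} (hu : orderOf u = 2) (hy : y * y = u) (hc : Commute c u) :
    c * y * c⁻¹ = y ∨ c * y * c⁻¹ = y⁻¹ := by
  have hy4 := root_order hu hy
  obtain ⟨n, hn⟩ := (mem_powers_iff_mem_zpowers.2 (h.conj_mem_zpowers hu (root_mem hy) hc (mem_zpowers y)) :
    c * y * c⁻¹ ∈ Submonoid.powers y)
  have hn' : y ^ (n % 4) = c * y * c⁻¹ := by rw [← hy4, pow_mod_orderOf]; exact hn
  have h4 : orderOf (c * y * c⁻¹) = 4 := by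
    rw [← hy4]; exact orderOf_injective (MulAut.conj c).toMonoidHom (MulAut.conj c).injective y
  have hmod : n % 4 = 0 ∨ n % 4 = 1 ∨ n % 4 = 2 ∨ n % 4 = 3 := by omega
  rcases hmod with e | e | e | e <;> rw [e] at hn'
  · rw [← hn', pow_zero, orderOf_one] at h4; omega
  · exact Or.inl (by rw [← hn', pow_one])
  · rw [← hn', pow_two, hy, hu] at h4; omega
  · refine Or.inr ?_
    rw [← hn', eq_inv_iff_mul_eq_one, ← pow_succ, show 3 + 1 = orderOf y by rw [hy4], pow_orderOf_eq_one]

/-- An involution in `C(u)` centralizes or inverts a root of `u`. -/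
theorem root_invol {y u s : G} (hu : orderOf u = 2) (hy : y * y = u) (hs : orderOf s = 2) (hsu : Commute s u) :
    Commute s y ∨ s * y * s = y⁻¹ := by
  rcases h.root_conj hu hy hsu with e | e
  · exact Or.inl (mul_inv_eq_iff_eq_mul.1 e)
  · rw [invol_eq_inv hs] at e; exact Or.inr e

/-- Roots of distinct commuting involutions commute, or the involutions invert the roots. -/
theorem root_pair {y w u s : G} (hu : orderOf u = 2) (hy : y * y = u) (hs : orderOf s = 2) (hw : w * w = s)
    (hus : Commute u s) (hne : u ≠ s) :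
    Commute y w ∨ (u * w * u = w⁻¹ ∧ s * y * s = y⁻¹) := by
  have key : ∀ {y w u s : G}, orderOf u = 2 → y * y = u → orderOf s = 2 → w * w = s → Commute u s → u ≠ s →
      Commute s y → Commute y w := by
    intro y w u s hu hy hs hw hus hne hsy
    have hyw := h.root_conj hs hw hsy.symm
    have huw : Commute u w := by
      rcases hyw with e | e
      · have hyw' : Commute y w := mul_inv_eq_iff_eq_mul.1 e
        rw [← hy]; exact hyw'.mul_left hyw'
      · have e2 : y * (y * w * y⁻¹) * y⁻¹ = w := by rw [e, ← conj_inv, e, inv_inv]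
        rw [show y * (y * w * y⁻¹) * y⁻¹ = u * w * u⁻¹ by rw [← hy]; group] at e2
        exact mul_inv_eq_iff_eq_mul.1 e2
    rcases hyw with e | e
    · exact mul_inv_eq_iff_eq_mul.1 e
    · exfalso
      obtain ⟨hc1, hc2⟩ := commutator_mem_zpowers
        (h.conj_mem_zpowers hs (root_mem hw) hsy.symm (mem_zpowers w))
        (h.conj_mem_zpowers hu (root_mem hy) huw.symm (mem_zpowers y))
      have ec : y * w * y⁻¹ * w⁻¹ = s := by
        rw [e, ← mul_inv_rev, hw, invol_eq_inv hs]
      rw [ec] at hc2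
      obtain ⟨n, hn⟩ := (mem_powers_iff_mem_zpowers.2 hc2 : s ∈ Submonoid.powers y)
      have hn' : y ^ (n % 4) = s := by rw [← root_order hu hy, pow_mod_orderOf]; exact hn
      have hmod : n % 4 = 0 ∨ n % 4 = 1 ∨ n % 4 = 2 ∨ n % 4 = 3 := by omega
      rcases hmod with e' | e' | e' | e' <;> rw [e'] at hn'
      · rw [pow_zero] at hn'; rw [← hn', orderOf_one] at hs; omega
      · rw [pow_one] at hn'; rw [← hn', root_order hu hy] at hs; omega
      · rw [pow_two, hy] at hn'; exact hne hn'
      · have h3 : y ^ 3 = y⁻¹ := eq_inv_iff_mul_eq_one.2 (by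
          rw [← pow_succ, show 3 + 1 = orderOf y by rw [root_order hu hy], pow_orderOf_eq_one])
        rw [← hn', h3, orderOf_inv, root_order hu hy] at hs; omega
  rcases h.root_invol hu hy hs hus.symm with e | e
  · exact Or.inl (key hu hy hs hw hus hne e)
  · rcases h.root_invol hs hw hu hus with e' | e'
    · exact Or.inl (key hs hw hu hy hus.symm hne.symm e').symm
    · exact Or.inr ⟨e', e⟩

/-- Roots with distinct commuting squares in a subgroup mapping to a 2-group commute. -/
theorem root_commute {H : Subgroup G} {T : Type*} [Group T] (hT : IsPGroup 2 T) (f : H →* T) (y w : H)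
    {u s : G} (hu : orderOf u = 2) (hy : (y : G) * y = u) (hs : orderOf s = 2) (hw : (w : G) * w = s)
    (hus : Commute u s) (hne : f (y * y) ≠ f (w * w)) : Commute (y : G) w := by
  have hne' : u ≠ s := fun e => hne (congrArg f (Subtype.ext (by
    rw [Subgroup.coe_mul, Subgroup.coe_mul, hy, hw, e])))
  refine (h.root_pair hu hy hs hw hus hne').resolve_right ?_
  rintro ⟨e1, e2⟩
  obtain ⟨hui, hsi⟩ := And.intro (invol_eq_inv hu) (invol_eq_inv hs)
  have e1' : (w : G) * u * (w : G)⁻¹ = u * s := by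
    calc (w : G) * u * (w : G)⁻¹ = u⁻¹ * (u * w * u) * (w : G)⁻¹ := by rw [hui]; simp only [← mul_assoc]; rw [show u * u = 1 by rw [← pow_two, ← hu, pow_orderOf_eq_one], one_mul]
      _ = u * s := by rw [e1, hui, mul_assoc, ← mul_inv_rev, hw, hsi]
  have e2' : (y : G) * s * (y : G)⁻¹ = u * s := by
    calc (y : G) * s * (y : G)⁻¹ = s⁻¹ * (s * y * s) * (y : G)⁻¹ := by rw [hsi]; simp only [← mul_assoc]; rw [show s * s = 1 by rw [← pow_two, ← hs, pow_orderOf_eq_one], one_mul]
      _ = s * u := by rw [e2, hsi, mul_assoc, ← mul_inv_rev, hy, hui]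
      _ = u * s := hus.eq.symm
  set U : H := y * y with hU
  set S : H := w * w with hS
  set c : H := y * w with hc
  have hyu : (y : G) * u * (y : G)⁻¹ = u := by rw [← hy]; group
  have hws : (w : G) * s * (w : G)⁻¹ = s := by rw [← hw]; group
  have hss : s * s = 1 := by rw [← pow_two, ← hs, pow_orderOf_eq_one]
  have huu : u * u = 1 := by rw [← pow_two, ← hu, pow_orderOf_eq_one]
  have hys : (y : G) * (u * s) * (y : G)⁻¹ = s := by
    rw [← conj_mul, hyu, e2', ← mul_assoc, huu, one_mul]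
  have c1 : c * U * c⁻¹ = S := Subtype.ext (by
    show (y : G) * w * (y * y) * ((y : G) * w)⁻¹ = (w : G) * w
    rw [hy, hw, ← hys, ← e1']; group)
  have c2 : c * S * c⁻¹ = U * S := Subtype.ext (by
    show (y : G) * w * (w * w) * ((y : G) * w)⁻¹ = (y : G) * y * (w * w)
    rw [hy, hw, ← e2']
    nth_rw 2 [← hws]
    group)
  have hSS : S * S = 1 := Subtype.ext (by
    show (w : G) * w * (w * w) = 1
    rw [hw, hss])
  have c3 : c * (U * S) * c⁻¹ = U := by
    have hSU : S * (U * S) = U := Subtype.ext (by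
      show (w : G) * w * ((y : G) * y * (w * w)) = (y : G) * y
      rw [hy, hw, ← mul_assoc, ← hus.eq, mul_assoc, hss, mul_one])
    rw [← conj_mul, c1, c2, hSU]
  clear_value U S c
  have f3 : f c ^ 3 * f U * (f c ^ 3)⁻¹ = f U := by
    have : c ^ 3 * U * (c ^ 3)⁻¹ = U := by
      calc c ^ 3 * U * (c ^ 3)⁻¹ = c * (c * (c * U * c⁻¹) * c⁻¹) * c⁻¹ := by
            simp only [pow_succ, pow_zero, one_mul, mul_inv_rev, mul_assoc]
        _ = U := by rw [c1, c2, c3]
    simpa only [map_mul, map_inv, map_pow] using congrArg f this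
  obtain ⟨k, hk⟩ := hT (f c)
  have hcop : Nat.Coprime 3 (orderOf (f c)) :=
    ((Nat.Coprime.pow_right k (by norm_num : Nat.Coprime 3 2))).coprime_dvd_right (orderOf_dvd_of_pow_eq_one hk)
  obtain ⟨m, hm⟩ := exists_pow_eq_self_of_coprime hcop
  have fc : Commute (f c) (f U) := by
    have h3 : Commute (f c ^ 3) (f U) := mul_inv_eq_iff_eq_mul.1 f3
    rw [← hm]; exact h3.pow_left m
  apply hne
  rw [← c1, map_mul, map_mul, map_inv, fc.eq, mul_inv_cancel_right]

/-- Roots of distinct squares in a 2-subgroup with commuting squares commute. -/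
theorem root_commute_pgroup {P : Subgroup G} (hP : IsPGroup 2 P) {y w u s : G} (hyP : y ∈ P) (hwP : w ∈ P)
    (hu : orderOf u = 2) (hy : y * y = u) (hs : orderOf s = 2) (hw : w * w = s)
    (hus : Commute u s) (hne : u ≠ s) : Commute y w :=
  h.root_commute hP (MonoidHom.id P) ⟨y, hyP⟩ ⟨w, hwP⟩ hu hy hs hw hus
    (fun e => hne (by simpa [hy, hw] using congrArg Subtype.val e))

/-- The squares of elements of order four in a 2-group commute. -/
theorem squares_commute {P : Subgroup G} (hP : IsPGroup 2 P) {y w u s : G} (hyP : y ∈ P) (hwP : w ∈ P)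
    (hu : orderOf u = 2) (hy : y * y = u) (hs : orderOf s = 2) (hw : w * w = s) : Commute u s := by
  by_contra hne
  obtain ⟨hui, hsi⟩ := And.intro (invol_eq_inv hu) (invol_eq_inv hs)
  have huu : u * u = 1 := by rw [← pow_two, ← hu, pow_orderOf_eq_one]
  have hss : s * s = 1 := by rw [← pow_two, ← hs, pow_orderOf_eq_one]
  have hdP : u * s ∈ P := mul_mem (hy ▸ mul_mem hyP hyP) (hw ▸ mul_mem hwP hwP)
  obtain ⟨n, hn⟩ := IsPGroup.iff_orderOf.1 hP ⟨u * s, hdP⟩
  rw [Subgroup.orderOf_mk] at hn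
  have hflip : u * (u * s) * u⁻¹ = (u * s)⁻¹ := by
    rw [mul_inv_rev, hui, hsi, ← mul_assoc, huu, one_mul]
  have hd2 : ¬ (u * s) ^ 2 = 1 := fun e => hne (by
    have e' : (u * s)⁻¹ = u * s := inv_eq_of_mul_eq_one_left (by rw [← pow_two, e])
    rw [mul_inv_rev, hui, hsi] at e'
    exact e'.symm)
  obtain ⟨n, rfl⟩ : ∃ k, n = k + 2 := ⟨n - 2, by
    rcases n with _ | _ | n
    · exact absurd (by rw [orderOf_eq_one_iff.1 (hn.trans (pow_zero 2)), one_pow]) hd2
    · exact absurd (by rw [← (show orderOf (u * s) = 2 by rw [hn]; rfl), pow_orderOf_eq_one]) hd2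
    · omega⟩
  obtain ⟨hj, hr⟩ := exists_root_pow hn
  set r := (u * s) ^ 2 ^ n with hr'
  set j := (u * s) ^ 2 ^ (n + 1) with hj'
  have hrflip : u * r * u⁻¹ = r⁻¹ := by rw [hr', ← conj_pow, hflip, inv_pow]
  have huj : Commute u j := by
    have e : u * j * u⁻¹ = j := by rw [hj', ← conj_pow, hflip, inv_pow, ← hj', invol_eq_inv hj]
    exact mul_inv_eq_iff_eq_mul.1 e
  have hju : u ≠ j := fun e => by
    have hc : Commute j (u * s) := (Commute.refl (u * s)).pow_left _
    rw [← e] at hc
    rw [hc.eq, mul_inv_cancel_right] at hflip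
    exact hd2 (by rw [pow_two]; nth_rw 2 [hflip]; exact mul_inv_cancel _)
  have hc := h.root_commute_pgroup hP hyP (pow_mem hdP _) hu hy hj hr huj hju
  have hur : Commute u r := hy ▸ hc.mul_left hc
  rw [hur.eq, mul_inv_cancel_right] at hrflip
  exact root_ne_inv hj hr hrflip

/-- In a 2-group with two different squares all elements of order four commute. -/
theorem roots_commute_of_two {P : Subgroup G} (hP : IsPGroup 2 P) {y y' w u s : G} (hyP : y ∈ P)
    (hy'P : y' ∈ P) (hwP : w ∈ P) (hu : orderOf u = 2) (hy : y * y = u) (hy' : y' * y' = u)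
    (hs : orderOf s = 2) (hw : w * w = s) (hne : u ≠ s) : Commute y y' := by
  have hus := h.squares_commute hP hyP hwP hu hy hs hw
  have h1 := h.root_commute_pgroup hP hyP hwP hu hy hs hw hus hne
  have h2 := h.root_commute_pgroup hP hy'P hwP hu hy' hs hw hus hne
  have huu : u * u = 1 := by rw [← pow_two, ← hu, pow_orderOf_eq_one]
  have hss : s * s = 1 := by rw [← pow_two, ← hs, pow_orderOf_eq_one]
  have hywsq : y * w * (y * w) = u * s := by rw [← hy, ← hw]; simp only [mul_assoc]; rw [← mul_assoc w y, ← h1.eq, mul_assoc]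
  have hus2 : orderOf (u * s) = 2 := orderOf_eq_prime (by rw [hus.mul_pow, pow_two, pow_two, huu, hss, one_mul])
    (fun e => hne (by rw [mul_eq_one_iff_eq_inv.1 e, invol_eq_inv hs]))
  have hne' : u * s ≠ u := fun e => by
    rw [mul_eq_left.1 e, orderOf_one] at hs; omega
  have h3 := h.root_commute_pgroup hP (mul_mem hyP hwP) hy'P hus2 hywsq hu hy'
    ((Commute.refl u).mul_left hus.symm) hne'
  have h4 := h3.mul_left h2.symm.inv_left
  rwa [mul_inv_cancel_right] at h4

/-- The odd part of `C(t)` is a normal subgroup with a 2-group as quotient. -/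
theorem oddPart_quot {t : G} (ht : orderOf t = 2) :
    ((h.oddPart ht).subgroupOf (centralizer ({t} : Set G))).Normal ∧
      ∀ g : centralizer ({t} : Set G), ∃ k : ℕ, g ^ 2 ^ k ∈ (h.oddPart ht).subgroupOf (centralizer ({t} : Set G)) := by
  refine ⟨⟨fun x hx g => ?_⟩, fun g => ?_⟩
  · rw [mem_subgroupOf] at hx ⊢
    have hg : Commute (g : G) t := mem_centralizer_singleton_iff.1 g.2
    refine ⟨(hg.mul_left hx.1).mul_left hg.inv_left, ?_⟩
    show Odd (orderOf ((g : G) * x * (g : G)⁻¹))
    have e : orderOf ((g : G) * x * (g : G)⁻¹) = orderOf (x : G) :=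
      orderOf_injective (MulAut.conj (g : G)).toMonoidHom (MulAut.conj (g : G)).injective (x : G)
    rw [e]; exact hx.2
  · obtain ⟨k, m, hm, hkm⟩ := Nat.exists_eq_two_pow_mul_odd (orderOf_pos (g : G)).ne'
    refine ⟨k, ?_⟩
    rw [mem_subgroupOf, SubgroupClass.coe_pow]
    refine ⟨Commute.pow_left (show Commute (g : G) t from mem_centralizer_singleton_iff.1 g.2) _, ?_⟩
    rw [orderOf_pow_of_dvd (pow_ne_zero _ two_ne_zero) (hkm ▸ dvd_mul_right _ _), hkm,
      Nat.mul_div_cancel_left _ (pow_pos two_pos k)]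
    exact hm

/-- Two elements of order four with distinct commuting squares in the centralizer of an involution commute. -/
theorem root_commute_cent {y w u s i : G} (hi : orderOf i = 2) (hyi : Commute y i) (hwi : Commute w i)
    (hu : orderOf u = 2) (hy : y * y = u) (hs : orderOf s = 2) (hw : w * w = s)
    (hus : Commute u s) (hne : u ≠ s) : Commute y w := by
  set C := centralizer ({i} : Set G)
  obtain ⟨hn, h2⟩ := h.oddPart_quot hi
  haveI := hn
  have hT : IsPGroup 2 (C ⧸ (h.oddPart hi).subgroupOf C) := fun q => by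
    obtain ⟨g, rfl⟩ := QuotientGroup.mk_surjective q
    obtain ⟨k, hk⟩ := h2 g
    exact ⟨k, by rw [← QuotientGroup.mk_pow]; exact (QuotientGroup.eq_one_iff _).2 hk⟩
  refine h.root_commute hT (QuotientGroup.mk' _) ⟨y, mem_centralizer_singleton_iff.2 hyi.eq⟩
    ⟨w, mem_centralizer_singleton_iff.2 hwi.eq⟩ hu hy hs hw hus ?_
  intro e
  have e1 := mem_subgroupOf.1 (QuotientGroup.eq.1 e)
  have e2 : u⁻¹ * s ∈ h.oddPart hi := by
    convert e1 using 1
    show u⁻¹ * s = (y * y)⁻¹ * (w * w)
    rw [hy, hw]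
  have hodd : Odd (orderOf (u⁻¹ * s)) := e2.2
  have hsq : (u⁻¹ * s) ^ 2 = 1 := by
    rw [hus.inv_left.mul_pow, inv_pow, ← hu, pow_orderOf_eq_one, inv_one, one_mul, hu, ← hs, pow_orderOf_eq_one]
  have h1 : orderOf (u⁻¹ * s) = 1 := Nat.dvd_one.1
    ((hodd.coprime_two_right : Nat.gcd _ 2 = 1) ▸ Nat.dvd_gcd dvd_rfl (orderOf_dvd_of_pow_eq_one hsq))
  exact hne (inv_mul_eq_one.1 (orderOf_eq_one_iff.1 h1))

end Hyp

end CfsgLib.Recog.NormCyclic
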