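import Cfsg.Agent.Lib.Recog.NormCyclic.Roots
import Cfsg.Agent.Lib.Invol.BrauerSuzuki
import Cfsg.Agent.Lib.FT.OddOrder

/-!
The standing assumptions: inheritance by normal subgroups of index two, and no isolated involution.
-/

set_option autoImplicit false
set_option linter.unusedSectionVars false

namespace CfsgLib.Recog.NormCyclic

open Subgroup

universe u

variable {G : Type u} [Group G] [Finite G]

theorem Std.of_solvable_normal [Nontrivial G]
    (hss : ∀ N : Subgroup G, N.Normal → Group.IsSolvable ↥N → N = ⊥) (hii : Hyp G) : Std G := by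
  refine ⟨hii, fun hs => ?_, ?_, fun N hN hodd => hss N hN (CfsgLib.FT.odd_order_solvable hodd)⟩
  · exact (top_ne_bot (α := Subgroup G)) (hss ⊤ inferInstance inferInstance)
  · exact hss _ inferInstance (Group.isSolvable_of_comm fun a b => Subtype.ext (mem_center_iff.1 b.2 a))

theorem Hyp.subgroup (h : Hyp G) (M : Subgroup G) : Hyp M := by
  intro X hX hev Y hY hY1
  have hinj : Function.Injective M.subtype := M.subtype_injective
  haveI : IsCyclic ↥(X.map M.subtype) :=
    isCyclic_of_surjective (X.equivMapOfInjective M.subtype hinj).toMonoidHom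
      (X.equivMapOfInjective M.subtype hinj).surjective
  have e := h (X.map M.subtype) inferInstance
    (by rw [card_map_of_injective hinj]; exact hev) (Y.map M.subtype) (map_mono hY)
    (fun e => hY1 ((map_eq_bot_iff_of_injective Y hinj).1 e))
  have key : ∀ Z : Subgroup M, Subgroup.normalizer (Z : Set M) =
      (Subgroup.normalizer ((Z.map M.subtype : Subgroup G) : Set G)).comap M.subtype := by
    intro Z
    ext g
    rw [mem_comap, mem_normalizer_iff, mem_normalizer_iff]
    have hm : ∀ w : M, (w : G) ∈ Z.map M.subtype ↔ w ∈ Z := fun w => mem_map_iff_mem hinj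
    constructor
    · intro hg n
      constructor
      · rintro ⟨w, hw, rfl⟩; exact ⟨g * w * g⁻¹, (hg w).1 hw, by simp⟩
      · rintro ⟨w, hw, hwe⟩
        refine ⟨g⁻¹ * w * g, (hg _).2 (by simpa [mul_assoc] using hw), ?_⟩
        simp only [Subgroup.coe_subtype, Subgroup.coe_mul, InvMemClass.coe_inv] at hwe ⊢
        rw [hwe]; group
    · intro hg w
      rw [← hm w, ← hm (g * w * g⁻¹), hg (w : G)]
      simp
  rw [key X, key Y, e]

theorem Std.oddPart_normal_false (S : Std G) {t : G} (ht : orderOf t = 2)
    (hn : (centralizer ({t} : Set G)).Normal) (hidx : (centralizer ({t} : Set G)).index ≤ 2) : False := by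
  set C := centralizer ({t} : Set G)
  have hAn : (S.hyp.oddPart ht).Normal := ⟨fun x hx g => by
    refine ⟨?_, ?_⟩
    · exact mem_centralizer_singleton_iff.1 (hn.conj_mem x (mem_centralizer_singleton_iff.2 hx.1.eq) g)
    · show Odd (orderOf (g * x * g⁻¹))
      rw [CfsgLib.Invol.orderOf_conj_eq]; exact hx.2⟩
  have hA : S.hyp.oddPart ht = ⊥ := by
    refine S.odd_normal _ hAn (Nat.not_even_iff_odd.1 fun he => ?_)
    obtain ⟨x, hx⟩ := exists_prime_orderOf_dvd_card' (G := S.hyp.oddPart ht) 2 (even_iff_two_dvd.1 he)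
    rw [← Subgroup.orderOf_coe] at hx
    have := x.2.2
    rw [hx] at this
    exact absurd this (by decide)
  obtain ⟨hn', h2⟩ := S.hyp.oddPart_quot ht
  have hC : IsPGroup 2 C := fun g => by
    obtain ⟨k, hk⟩ := h2 g
    rw [hA] at hk
    exact ⟨k, by simpa using hk⟩
  haveI := hn
  haveI : Group.IsNilpotent C := hC.isNilpotent
  have hq : Group.IsSolvable (G ⧸ C) := by
    have hle : Nat.card (G ⧸ C) ≤ 2 := by rwa [← index_eq_card]
    refine Group.isSolvable_of_comm fun a b => ?_
    haveI : IsCyclic (G ⧸ C) := by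
      rcases Nat.lt_or_ge (Nat.card (G ⧸ C)) 2 with hlt | hge
      · haveI : Subsingleton (G ⧸ C) := Finite.card_le_one_iff_subsingleton.1 (by omega)
        exact isCyclic_of_subsingleton
      · haveI : Fact (Nat.Prime 2) := ⟨Nat.prime_two⟩
        exact isCyclic_of_prime_card (le_antisymm hle hge)
    exact IsCyclic.commGroup.mul_comm a b
  exact S.notSolvable (solvable_of_ker_le_range C.subtype (QuotientGroup.mk' C) (by
    rw [QuotientGroup.ker_mk', range_subtype]))

theorem Std.oddCore_eq_bot (S : Std G) : Cfsg.oddCore G = ⊥ :=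
  S.odd_normal _ inferInstance (CfsgLib.Invol.odd_card_oddCore G)

/-- No involution is isolated. -/
theorem Std.exists_conj_commute (S : Std G) {t : G} (ht : orderOf t = 2) :
    ∃ g : G, Commute t (g * t * g⁻¹) ∧ g * t * g⁻¹ ≠ t := by
  by_contra hne
  push Not at hne
  have hz : Cfsg.IsIsolatedInvolution t := ⟨ht, fun g hg => hne g hg⟩
  have hc : t ∈ Subgroup.center G := mem_center_iff.2 fun g => by
    have h1 := CfsgLib.Invol.zstar G hz g
    rw [S.oddCore_eq_bot, mem_bot, mul_inv_eq_one, mul_inv_eq_iff_eq_mul] at h1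
    exact h1.symm
  rw [S.center, mem_bot] at hc
  rw [hc, orderOf_one] at ht
  omega

/-- Normal subgroups of index two inherit the assumptions. -/
theorem Std.of_index_two (S : Std G) (M : Subgroup G) [hM : M.Normal] (hidx : M.index = 2) : Std M := by
  have hns : ¬ Group.IsSolvable M := fun hs => by
    haveI := hs
    have hq : Group.IsSolvable (G ⧸ M) := by
      haveI : Fact (Nat.Prime 2) := ⟨Nat.prime_two⟩
      haveI : IsCyclic (G ⧸ M) := isCyclic_of_prime_card (index_eq_card M ▸ hidx)
      exact Group.isSolvable_of_comm fun a b => IsCyclic.commGroup.mul_comm a b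
    exact S.notSolvable (solvable_of_ker_le_range M.subtype (QuotientGroup.mk' M) (by
      rw [QuotientGroup.ker_mk', range_subtype]))
  have hodd : ∀ N : Subgroup M, N.Normal → Odd (Nat.card N) → N = ⊥ := by
    intro N hN hNo
    have h1 : ((Cfsg.oddCore M).map M.subtype) = ⊥ := by
      haveI := CfsgLib.Solvable.pPrimeCore_characteristic 2 M
      exact S.odd_normal _ inferInstance
        (by rw [card_map_of_injective M.subtype_injective]; exact CfsgLib.Invol.odd_card_oddCore M)
    rw [map_eq_bot_iff_of_injective _ M.subtype_injective] at h1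
    exact le_bot_iff.1 (h1 ▸ CfsgLib.Invol.le_oddCore hN hNo)
  refine ⟨S.hyp.subgroup M, hns, ?_, hodd⟩
  by_contra hne
  have hev : Even (Nat.card (Subgroup.center M)) :=
    Nat.not_odd_iff_even.1 fun ho => hne (hodd _ inferInstance ho)
  obtain ⟨z, hz⟩ := exists_prime_orderOf_dvd_card' (G := Subgroup.center M) 2 (even_iff_two_dvd.1 hev)
  rw [← Subgroup.orderOf_coe, ← Subgroup.orderOf_coe] at hz
  set t : G := ((z : M) : G)
  have hle : M ≤ centralizer ({t} : Set G) := fun m hm => mem_centralizer_singleton_iff.2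
    (congrArg Subtype.val (mem_center_iff.1 z.2 ⟨m, hm⟩))
  have hi : (centralizer ({t} : Set G)).index ≤ 2 :=
    hidx ▸ Nat.le_of_dvd (by omega) (index_dvd_of_le hle)
  refine S.oddPart_normal_false hz ?_ hi
  rcases Nat.lt_or_ge (centralizer ({t} : Set G)).index 2 with hlt | hge
  · have h1 : (centralizer ({t} : Set G)).index = 1 := by
      have : (centralizer ({t} : Set G)).index ≠ 0 := index_ne_zero_of_finite
      omega
    rw [index_eq_one.1 h1]
    infer_instance
  · exact normal_of_index_eq_two (le_antisymm hi hge)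

end CfsgLib.Recog.NormCyclic
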